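import Mathlib

/-!
# Reducing the pole of an Artin–Schreier element after a totally ramified extension

`D` is a discrete valuation ring with uniformizer `z` and fraction field `E` of characteristic `p`,
and `j : B → D` is a local map of discrete valuation rings with trivial residue extension such that
`j π = z ^ q * (1 + z ^ R * ε)`.
-/

set_option autoImplicit false
universe u

open IsLocalRing

namespace ASWeak24

section Defs

variable (p : ℕ) (D : Type u) [CommRing D] [IsLocalRing D] {E : Type u} [Field E] [Algebra D E]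

/-- `x` is, up to `η ^ p - η`, integral or has pole order divisible by `p` with leading
coefficient not a `p`-th power. -/
def Reduced (x : E) : Prop :=
  ∃ η : E, (∃ d : D, x + (η ^ p - η) = algebraMap D E d) ∨
    ∃ (ϖ : D) (m : ℕ) (c : D), Irreducible ϖ ∧ 0 < m ∧ p ∣ m ∧
      (∀ r : D, residue D c ≠ residue D r ^ p) ∧
      (x + (η ^ p - η)) * algebraMap D E ϖ ^ m = algebraMap D E c

/-- `x` has, up to `η ^ p - η`, pole order at most `n`. -/
def PoleLE (n : ℕ) (x : E) : Prop :=
  ∃ (η : E) (ϖ : D) (d : D), Irreducible ϖ ∧ (x + (η ^ p - η)) * algebraMap D E ϖ ^ n = algebraMap D E d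

/-- The exponents `i * p ^ a` with `i ≤ n` and `a ≤ k`. -/
def Expo (n k e : ℕ) : Prop := ∃ i a, i ≤ n ∧ a ≤ k ∧ e = i * p ^ a

end Defs

variable {p : ℕ} [hp : Fact p.Prime]

theorem Expo.le {n k e : ℕ} (h : Expo p n k e) : e ≤ n * p ^ k := by
  obtain ⟨i, a, hi, ha, rfl⟩ := h
  exact Nat.mul_le_mul hi (Nat.pow_le_pow_right hp.out.pos ha)

theorem Expo.dvd {n k e : ℕ} (h : Expo p n k e) (hne : n < e) :
    ∃ e', e = p * e' ∧ Expo p n k e' := by
  obtain ⟨i, a, hi, ha, rfl⟩ := h
  obtain ⟨a, rfl⟩ : ∃ a', a = a' + 1 := ⟨a - 1, by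
    rcases Nat.eq_zero_or_pos a with rfl | h
    · rw [pow_zero, mul_one] at hne; omega
    · omega⟩
  exact ⟨i * p ^ a, by rw [pow_succ]; ring, i, a, hi, by omega, rfl⟩

theorem Expo.sub {n k e : ℕ} (h : Expo p n k e) : Expo p n k (e - p ^ k) := by
  obtain ⟨i, a, hi, ha, rfl⟩ := h
  refine ⟨i - p ^ (k - a), a, by omega, ha, ?_⟩
  rw [Nat.sub_mul, ← pow_add, Nat.sub_add_cancel ha]

/-- `n * p` is not an exponent for `n - 1` when `p` does not divide `n`. -/
theorem Expo.ne_mul {n k : ℕ} (hn : 0 < n) (hpn : ¬ p ∣ n) : ¬ Expo p (n - 1) k (n * p) := by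
  rintro ⟨i, a, hi, -, h⟩
  rcases a with _ | _ | a
  · rw [pow_zero, mul_one] at h
    have := Nat.le_mul_of_pos_right n hp.out.pos
    omega
  · rw [zero_add, pow_one] at h
    have := Nat.eq_of_mul_eq_mul_right hp.out.pos h
    omega
  · refine hpn ⟨i * p ^ a, Nat.eq_of_mul_eq_mul_right hp.out.pos ?_⟩
    rw [h, pow_succ, pow_succ]; ring

variable {B D E : Type u} [CommRing B] [CommRing D] [IsDomain D] [IsDiscreteValuationRing D]
  [Field E] [Algebra D E] [IsFractionRing D E] [CharP E p]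

theorem asAdd (η₁ η₂ : E) :
    (η₁ + η₂) ^ p - (η₁ + η₂) = (η₁ ^ p - η₁) + (η₂ ^ p - η₂) := by
  rw [add_pow_char]; ring

theorem asNeg (η : E) : (-η) ^ p - (-η) = -(η ^ p) + η := by
  rw [show (-η) = 0 - η from (zero_sub η).symm, sub_pow_char, zero_pow hp.out.ne_zero]; ring

omit [IsDomain D] [IsDiscreteValuationRing D] [IsFractionRing D E] in
theorem one_add_pow_eq (x a : D) (i : ℕ) :
    ∃ a' : D, (1 + x * a) ^ i = 1 + x * a' ∧ ∃ w, a' = i * a + x * w := by
  induction i with
  | zero => exact ⟨0, by simp, 0, by simp⟩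
  | succ i ih =>
    obtain ⟨a', h, w, hw⟩ := ih
    refine ⟨a' + a + x * a' * a, by rw [pow_succ, h]; ring, w + a' * a, ?_⟩
    rw [hw]; push_cast; ring

variable (j : B →+* D) (π : B) (z : D)

/-- The generators of the span of Laurent tails. -/
def gens (E : Type u) [Field E] [Algebra D E] (p n k t M : ℕ) : Set E :=
  {x | ∃ e b, Expo p n k e ∧ e ≤ M ∧ x = algebraMap D E (j b) / algebraMap D E z ^ e} ∪
    {x | ∃ d, x = algebraMap D E d / algebraMap D E z ^ t}

variable {j π z}

omit [IsDomain D] [IsDiscreteValuationRing D] in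
theorem rem_mem {n k t M e : ℕ} (hz0 : algebraMap D E z ≠ 0) (he : e ≤ t) (d : D) :
    algebraMap D E d / algebraMap D E z ^ e ∈ AddSubgroup.closure (gens j z E p n k t M) := by
  refine AddSubgroup.subset_closure (Or.inr ⟨d * z ^ (t - e), ?_⟩)
  rw [map_mul, map_pow, div_eq_div_iff (pow_ne_zero _ hz0) (pow_ne_zero _ hz0), mul_assoc, ← pow_add,
    Nat.sub_add_cancel he]

omit [IsDomain D] [IsDiscreteValuationRing D] in
theorem mul_pow_mem {n k t M N : ℕ} (hz0 : algebraMap D E z ≠ 0) (hM : M < N) (ht : t < N) {x : E}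
    (hx : x ∈ AddSubgroup.closure (gens j z E p n k t M)) :
    ∃ d, x * algebraMap D E z ^ N = algebraMap D E (z * d) := by
  have key : ∀ (e : ℕ) (d : D), e < N → ∃ d', algebraMap D E d / algebraMap D E z ^ e *
      algebraMap D E z ^ N = algebraMap D E (z * d') := fun e d he => by
    refine ⟨d * z ^ (N - e - 1), ?_⟩
    obtain ⟨f, rfl⟩ : ∃ f, N = e + (f + 1) := ⟨N - e - 1, by omega⟩
    rw [show e + (f + 1) - e - 1 = f by omega, pow_add, ← mul_assoc,
      div_mul_cancel₀ _ (pow_ne_zero _ hz0), pow_succ, map_mul, map_mul, map_pow]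
    ring
  induction hx using AddSubgroup.closure_induction with
  | mem x hx =>
    rcases hx with ⟨e, b, -, he, rfl⟩ | ⟨d, rfl⟩
    · exact key e _ (by omega)
    · exact key t _ ht
  | zero => exact ⟨0, by simp⟩
  | add a b _ _ ha hb =>
    obtain ⟨d₁, h₁⟩ := ha
    obtain ⟨d₂, h₂⟩ := hb
    exact ⟨d₁ + d₂, by rw [add_mul, h₁, h₂, ← map_add, ← mul_add]⟩
  | neg a _ ha =>
    obtain ⟨d, h⟩ := ha
    exact ⟨-d, by rw [neg_mul, h, ← map_neg, mul_neg]⟩

omit [IsDomain D] [IsDiscreteValuationRing D] [CharP E p] in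
theorem decompose {n k t M : ℕ} {x : E}
    (hx : x ∈ AddSubgroup.closure (gens j z E p n k t (M + 1))) :
    ∃ b y, y ∈ AddSubgroup.closure (gens j z E p n k t M) ∧ (Expo p n k (M + 1) ∨ b = 0) ∧
      x = algebraMap D E (j b) / algebraMap D E z ^ (M + 1) + y := by
  induction hx using AddSubgroup.closure_induction with
  | mem x hx =>
    rcases hx with ⟨e, b, he', he, rfl⟩ | ⟨d, rfl⟩
    · by_cases h : e = M + 1
      · subst h; exact ⟨b, 0, AddSubgroup.zero_mem _, Or.inl he', (add_zero _).symm⟩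
      · exact ⟨0, _, AddSubgroup.subset_closure (Or.inl ⟨e, b, he', by omega, rfl⟩), Or.inr rfl,
          by rw [map_zero, map_zero, zero_div, zero_add]⟩
    · exact ⟨0, _, AddSubgroup.subset_closure (Or.inr ⟨d, rfl⟩), Or.inr rfl,
        by rw [map_zero, map_zero, zero_div, zero_add]⟩
  | zero => exact ⟨0, 0, AddSubgroup.zero_mem _, Or.inr rfl, by simp⟩
  | add a a' _ _ ha hb =>
    obtain ⟨b₁, y₁, hy₁, h₁, rfl⟩ := ha
    obtain ⟨b₂, y₂, hy₂, h₂, rfl⟩ := hb
    refine ⟨b₁ + b₂, y₁ + y₂, AddSubgroup.add_mem _ hy₁ hy₂, ?_, by rw [map_add, map_add, add_div]; ring⟩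
    rcases h₁ with h₁ | h₁
    · exact Or.inl h₁
    · rcases h₂ with h₂ | h₂
      · exact Or.inl h₂
      · exact Or.inr (by rw [h₁, h₂, add_zero])
  | neg a _ ha =>
    obtain ⟨b, y, hy, h, rfl⟩ := ha
    refine ⟨-b, -y, AddSubgroup.neg_mem _ hy, h.imp id (fun hb => by rw [hb, neg_zero]),
      by rw [map_neg, map_neg, neg_div]; ring⟩

variable [IsLocalRing B] {q R : ℕ} {ε : D}

/-- The data of a totally ramified step. -/
structure Step (j : B →+* D) (π : B) (z : D) (q R : ℕ) (ε : D) : Prop where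
  max : maximalIdeal D = Ideal.span {z}
  pos : 0 < R
  eq : j π = z ^ q * (1 + z ^ R * ε)
  surj : ∀ d : D, ∃ b, d - j b ∈ Ideal.span {z}
  ker : ∀ b, j b ∈ Ideal.span {z} → π ∣ b

namespace Step

variable (S : Step j π z q R ε)

include S

omit [IsLocalRing B] in
theorem z_ne (E : Type u) [Field E] [Algebra D E] [IsFractionRing D E] : algebraMap D E z ≠ 0 :=
  (map_ne_zero_iff _ (IsFractionRing.injective D E)).mpr
    ((IsDiscreteValuationRing.irreducible_iff_uniformizer z).mpr S.max).ne_zero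

omit [IsLocalRing B] in
theorem irreducible : Irreducible z := (IsDiscreteValuationRing.irreducible_iff_uniformizer z).mpr S.max

omit [IsLocalRing B] in
theorem residue_z : residue D z = 0 :=
  (residue_eq_zero_iff z).mpr (S.max ▸ Ideal.mem_span_singleton_self z)

omit [IsLocalRing B] in
theorem inv_pow (i : ℕ) :
    ∃ ε' : D, (1 + z ^ R * ε) ^ i * (1 + z ^ R * ε') = 1 ∧ residue D ε' = -((i : ResidueField D) * residue D ε) := by
  obtain ⟨a, ha, w, hw⟩ := one_add_pow_eq (z ^ R) ε i
  have hmem : z ^ R * a ∈ maximalIdeal D :=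
    Ideal.mul_mem_right _ _ (Ideal.pow_mem_of_mem _ (S.max ▸ Ideal.mem_span_singleton_self z) R S.pos)
  have hu : IsUnit (1 + z ^ R * a) := by
    by_contra hnu
    exact (maximalIdeal.isMaximal D).ne_top ((Ideal.eq_top_iff_one _).mpr
      (by simpa using sub_mem ((mem_maximalIdeal _).mpr hnu) hmem))
  refine ⟨-(a * ↑hu.unit⁻¹), ?_, ?_⟩
  · rw [ha]
    have h := hu.mul_val_inv
    have h' : (↑hu.unit⁻¹ : D) = 1 - z ^ R * a * ↑hu.unit⁻¹ := by linear_combination h
    linear_combination h + (1 + z ^ R * a) * (-h')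
  · have h1 : residue D (↑hu.unit⁻¹ : D) = 1 := by
      have h := congrArg (residue D) hu.mul_val_inv
      rw [map_mul, map_add, map_one, (residue_eq_zero_iff _).mpr hmem, add_zero, one_mul] at h
      exact h
    rw [map_neg, map_mul, h1, mul_one, hw, map_add, map_mul, map_natCast, map_mul, map_pow,
      S.residue_z, zero_pow S.pos.ne', zero_mul, add_zero]

omit [IsLocalRing B] in
theorem residue_surjective (d : D) : ∃ b, residue D d = residue D (j b) := by
  obtain ⟨b, hb⟩ := S.surj d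
  exact ⟨b, Ideal.Quotient.eq.mpr (S.max ▸ hb)⟩

omit [IsLocalRing B] in
/-- A residue which is a `p`-th power upstairs is one downstairs. -/
theorem exists_pow_add_mul {b : B} {r : D} (h : residue D (j b) = residue D r ^ p) :
    ∃ r₀ b', b = r₀ ^ p + π * b' := by
  obtain ⟨r₀, hr₀⟩ := S.residue_surjective r
  have hmem : j (b - r₀ ^ p) ∈ Ideal.span {z} := by
    rw [← S.max, ← residue_eq_zero_iff, map_sub, map_pow, map_sub, map_pow, h, hr₀, sub_self]
  obtain ⟨b', hb'⟩ := S.ker _ hmem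
  exact ⟨r₀, b', by rw [← hb']; ring⟩

omit [IsLocalRing B] in
/-- Telescoping `p`-th powers. -/
theorem telescope (r : D) (N : ℕ) : ∀ i : ℕ, ∃ η : E,
    algebraMap D E (r ^ p ^ i) / algebraMap D E z ^ (N * p ^ i) + (η ^ p - η) =
      algebraMap D E r / algebraMap D E z ^ N
  | 0 => ⟨0, by simp [zero_pow hp.out.ne_zero]⟩
  | i + 1 => by
    obtain ⟨η, hη⟩ := telescope r N i
    refine ⟨-(algebraMap D E (r ^ p ^ i) / algebraMap D E z ^ (N * p ^ i)) + η, ?_⟩
    rw [asAdd, asNeg, ← hη, pow_succ p i, ← mul_assoc N, pow_mul r, map_pow (algebraMap D E) (r ^ p ^ i),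
      pow_mul (algebraMap D E z), ← div_pow]
    ring

omit [IsLocalRing B] in
theorem mem_span_of_div {n k t i : ℕ} (hq : q = p ^ k) (hbound : n * q ≤ t + R + q) (hi : i ≤ n)
    (hiq : i * q ≤ t + R) (b : B) :
    algebraMap D E (j b) / algebraMap D E (j π) ^ i ∈
      AddSubgroup.closure (gens j z E p n k t (n * q)) := by
  have hz0 := S.z_ne E
  obtain ⟨ε', hε', -⟩ := S.inv_pow i
  have h1 : algebraMap D E (j b) / algebraMap D E (j π) ^ i =
      algebraMap D E (j b) / algebraMap D E z ^ (i * q) +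
        algebraMap D E (z ^ R * (j b * ε')) / algebraMap D E z ^ (i * q) := by
    rw [← add_div, ← map_add, ← map_pow, S.eq, mul_pow, ← pow_mul, mul_comm q i, map_mul, map_pow]
    have h2 : algebraMap D E ((1 + z ^ R * ε) ^ i) * algebraMap D E (1 + z ^ R * ε') = 1 := by
      rw [← map_mul, hε', map_one]
    have hu0 : algebraMap D E ((1 + z ^ R * ε) ^ i) ≠ 0 := left_ne_zero_of_mul_eq_one h2
    rw [show j b + z ^ R * (j b * ε') = j b * (1 + z ^ R * ε') by ring, map_mul (algebraMap D E) (j b),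
      div_eq_div_iff (mul_ne_zero (pow_ne_zero _ hz0) hu0) (pow_ne_zero _ hz0)]
    linear_combination (-(algebraMap D E (j b)) * algebraMap D E z ^ (i * q)) * h2
  rw [h1]
  refine AddSubgroup.add_mem _ (AddSubgroup.subset_closure (Or.inl
    ⟨i * q, b, ⟨i, k, hi, le_rfl, by rw [hq]⟩, Nat.mul_le_mul_right q hi, rfl⟩)) ?_
  by_cases hR : R ≤ i * q
  · obtain ⟨e, he⟩ := Nat.exists_eq_add_of_le hR
    rw [he, pow_add, map_mul, map_pow, mul_div_mul_left _ _ (pow_ne_zero _ hz0)]
    exact rem_mem hz0 (by omega) _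
  · obtain ⟨e, he⟩ := Nat.exists_eq_add_of_le (not_le.mp hR).le
    rw [he, pow_add, mul_assoc (z ^ (i * q)), map_mul, map_pow,
      mul_div_cancel_left₀ _ (pow_ne_zero _ hz0),
      show ∀ d : D, algebraMap D E d = algebraMap D E d / algebraMap D E z ^ 0 from fun d => by
        rw [pow_zero, div_one] ]
    exact rem_mem hz0 (Nat.zero_le _) _

omit [IsLocalRing B] in
/-- Either a pole of order divisible by `p` with non-`p`-th-power coefficient appears above `t`, or
the pole order drops to `t`. -/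
theorem descent {n k t : ℕ} (hnt : n ≤ t) (hq : q = p ^ k) (hbound : n * q ≤ t + R + q) :
    ∀ (M : ℕ) (x : E), x ∈ AddSubgroup.closure (gens j z E p n k t M) →
      (∃ η d, x + (η ^ p - η) = algebraMap D E d / algebraMap D E z ^ t) ∨
      ∃ η e c, Expo p n k e ∧ t < e ∧ (∀ r, residue D c ≠ residue D r ^ p) ∧
        (x + (η ^ p - η)) * algebraMap D E z ^ e = algebraMap D E c := by
  have hz0 := S.z_ne E
  intro M
  induction M using Nat.strong_induction_on with
  | _ M ih =>
  intro x hx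
  by_cases hMt : M ≤ t
  · refine Or.inl ⟨0, ?_⟩
    suffices h : ∃ d, x = algebraMap D E d / algebraMap D E z ^ t by
      obtain ⟨d, hd⟩ := h
      exact ⟨d, by rw [zero_pow hp.out.ne_zero, sub_zero, add_zero, hd]⟩
    induction hx using AddSubgroup.closure_induction with
    | mem x hx =>
      rcases hx with ⟨e, b, -, he, rfl⟩ | ⟨d, rfl⟩
      · refine ⟨j b * z ^ (t - e), ?_⟩
        rw [map_mul, map_pow, div_eq_div_iff (pow_ne_zero _ hz0) (pow_ne_zero _ hz0), mul_assoc,
          ← pow_add, Nat.sub_add_cancel (he.trans hMt)]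
      · exact ⟨d, rfl⟩
    | zero => exact ⟨0, by simp⟩
    | add a b _ _ ha hb =>
      obtain ⟨d₁, rfl⟩ := ha
      obtain ⟨d₂, rfl⟩ := hb
      exact ⟨d₁ + d₂, by rw [map_add, add_div]⟩
    | neg a _ ha =>
      obtain ⟨d, rfl⟩ := ha
      exact ⟨-d, by rw [map_neg, neg_div]⟩
  obtain ⟨M, rfl⟩ : ∃ M', M = M' + 1 := ⟨M - 1, by omega⟩
  obtain ⟨b, y, hy, hbM, rfl⟩ := decompose hx
  rcases hbM with hM | hb0
  swap
  · rw [hb0, map_zero, map_zero, zero_div, zero_add]
    exact ih M (by omega) y hy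
  by_cases hpth : ∃ r, residue D (j b) = residue D r ^ p
  swap
  · obtain ⟨d, hd⟩ := mul_pow_mem hz0 (Nat.lt_succ_self M) (by omega : t < M + 1) hy
    refine Or.inr ⟨0, M + 1, j b + z * d, hM, by omega, fun r hr => hpth ⟨r, ?_⟩, ?_⟩
    · rw [← hr, map_add, map_mul, S.residue_z, zero_mul, add_zero]
    · rw [zero_pow hp.out.ne_zero, sub_zero, add_zero, add_mul, div_mul_cancel₀ _ (pow_ne_zero _ hz0), hd,
        map_add]
  obtain ⟨r, hr⟩ := hpth
  obtain ⟨r₀, b', rfl⟩ := S.exists_pow_add_mul hr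
  obtain ⟨e', he', hexp⟩ := hM.dvd (by omega)
  have hsub : Expo p n k (M + 1 - q) := hq ▸ hM.sub
  have hle : M + 1 ≤ n * q := hq ▸ hM.le
  have he'M : e' ≤ M := by
    have h2 : 2 * e' ≤ p * e' := Nat.mul_le_mul_right e' hp.out.two_le
    omega
  let η₁ : E := -(algebraMap D E (j r₀) / algebraMap D E z ^ e')
  have hkey : algebraMap D E (j (r₀ ^ p + π * b')) / algebraMap D E z ^ (M + 1) + y + (η₁ ^ p - η₁) =
      algebraMap D E (j r₀) / algebraMap D E z ^ e' +
        algebraMap D E (j π * j b') / algebraMap D E z ^ (M + 1) + y := by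
    simp only [η₁]
    rw [asNeg, div_pow, ← pow_mul, mul_comm e' p, ← he', map_add, map_pow, map_add, map_mul j, map_pow,
      add_div]
    ring
  have hmem : algebraMap D E (j π * j b') / algebraMap D E z ^ (M + 1) ∈
      AddSubgroup.closure (gens j z E p n k t M) := by
    by_cases hqM : q ≤ M + 1
    · obtain ⟨f, hf⟩ := Nat.exists_eq_add_of_le hqM
      rw [S.eq, mul_assoc, hf, pow_add, map_mul, map_pow, mul_div_mul_left _ _ (pow_ne_zero _ hz0),
        add_mul, one_mul, map_add, add_div]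
      refine AddSubgroup.add_mem _ (AddSubgroup.subset_closure (Or.inl
        ⟨f, b', by rwa [show f = M + 1 - q by omega], by
          have : 0 < q := hq ▸ pow_pos hp.out.pos k
          omega, rfl⟩)) ?_
      by_cases hRf : R ≤ f
      · obtain ⟨g, hg⟩ := Nat.exists_eq_add_of_le hRf
        rw [hg, pow_add, mul_assoc, map_mul, map_pow, mul_div_mul_left _ _ (pow_ne_zero _ hz0)]
        exact rem_mem hz0 (by omega) _
      · obtain ⟨g, hg⟩ := Nat.exists_eq_add_of_le (not_le.mp hRf).le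
        rw [hg, pow_add, mul_assoc, mul_assoc, map_mul, map_pow,
          mul_div_cancel_left₀ _ (pow_ne_zero _ hz0),
          show ∀ d : D, algebraMap D E d = algebraMap D E d / algebraMap D E z ^ 0 from fun d => by
            rw [pow_zero, div_one] ]
        exact rem_mem hz0 (Nat.zero_le _) _
    · obtain ⟨f, hf⟩ := Nat.exists_eq_add_of_le (not_le.mp hqM).le
      rw [S.eq, hf, pow_add, mul_assoc, mul_assoc, map_mul, map_pow,
        mul_div_cancel_left₀ _ (pow_ne_zero _ hz0),
        show ∀ d : D, algebraMap D E d = algebraMap D E d / algebraMap D E z ^ 0 from fun d => by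
          rw [pow_zero, div_one] ]
      exact rem_mem hz0 (Nat.zero_le _) _
  have hx' : algebraMap D E (j r₀) / algebraMap D E z ^ e' +
        algebraMap D E (j π * j b') / algebraMap D E z ^ (M + 1) + y ∈
      AddSubgroup.closure (gens j z E p n k t M) :=
    AddSubgroup.add_mem _ (AddSubgroup.add_mem _
      (AddSubgroup.subset_closure (Or.inl ⟨e', r₀, hexp, he'M, rfl⟩)) hmem) hy
  rcases ih M (by omega) _ hx' with ⟨η, d, hd⟩ | ⟨η, e, c, h1, h2, h3, h4⟩
  · exact Or.inl ⟨η₁ + η, d, by rw [asAdd, ← add_assoc, hkey, hd]⟩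
  · exact Or.inr ⟨η₁ + η, e, c, h1, h2, h3, by rw [asAdd, ← add_assoc, hkey, h4]⟩

omit [IsLocalRing B] in
/-- The leading coefficient lies in the perfect core: a degree `p` step lowers the pole order. -/
theorem core_case (hq : q = p) {n : ℕ} (hn : 0 < n) (hpn : ¬ p ∣ n) (hR : R = (p - 1) * n) (r b' : B)
    (hε : residue D (j r) ^ p * (-((n : ResidueField D) * residue D ε)) + residue D (j r) = 0) :
    Reduced p D (algebraMap D E (j (r ^ p + π * b')) / algebraMap D E (j π) ^ n) ∨
      PoleLE p D (n - 1) (algebraMap D E (j (r ^ p + π * b')) / algebraMap D E (j π) ^ n) := by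
  obtain ⟨n, rfl⟩ : ∃ n', n = n' + 1 := ⟨n - 1, by omega⟩
  rw [Nat.add_sub_cancel]
  have hz0 := S.z_ne E
  have hπ0 : algebraMap D E (j π) ≠ 0 := by
    obtain ⟨ε', h, -⟩ := S.inv_pow 1
    rw [S.eq, map_mul, map_pow]
    refine mul_ne_zero (pow_ne_zero _ hz0) ?_
    rw [pow_one] at h
    exact left_ne_zero_of_mul_eq_one (by rw [← map_mul, h, map_one])
  have hmul : n * p + p = (n + 1) + (p - 1) * (n + 1) := by
    obtain ⟨p', rfl⟩ : ∃ p', p = p' + 1 := ⟨p - 1, by have := hp.out.pos; omega⟩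
    rw [Nat.add_sub_cancel]; ring
  have hp2 := hp.out.two_le
  -- the leading term
  obtain ⟨ε', hinv, hε'⟩ := S.inv_pow (n + 1)
  obtain ⟨η₁, hη₁⟩ := telescope (E := E) S (j r) (n + 1) 1
  rw [pow_one] at hη₁
  obtain ⟨d₁, hd₁⟩ : z ∣ j r ^ p * ε' + j r := by
    rw [← Ideal.mem_span_singleton, ← S.max, ← residue_eq_zero_iff, map_add, map_mul, map_pow, hε']
    exact hε
  have hlead : algebraMap D E (j r ^ p) / algebraMap D E (j π) ^ (n + 1) + (η₁ ^ p - η₁) =
      algebraMap D E d₁ / algebraMap D E z ^ n := by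
    have hsplit : algebraMap D E (j r ^ p) / algebraMap D E (j π) ^ (n + 1) =
        algebraMap D E (j r ^ p) / algebraMap D E z ^ ((n + 1) * p) +
          algebraMap D E (j r ^ p * ε') / algebraMap D E z ^ (n + 1) := by
      have h2 : algebraMap D E ((1 + z ^ R * ε) ^ (n + 1)) * algebraMap D E (1 + z ^ R * ε') = 1 := by
        rw [← map_mul, hinv, map_one]
      have hu0 : algebraMap D E ((1 + z ^ R * ε) ^ (n + 1)) ≠ 0 := left_ne_zero_of_mul_eq_one h2
      have h3 : algebraMap D E z ^ ((n + 1) * p) = algebraMap D E z ^ R * algebraMap D E z ^ (n + 1) := by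
        rw [← pow_add]; congr 1; rw [hR, add_mul, one_mul, hmul, add_comm]
      rw [← map_pow (algebraMap D E) (j π), S.eq, mul_pow, hq, ← pow_mul, mul_comm p (n + 1), map_mul,
        map_pow (algebraMap D E) z,
        show algebraMap D E (j r ^ p * ε') / algebraMap D E z ^ (n + 1) =
          algebraMap D E z ^ R * algebraMap D E (j r ^ p * ε') / algebraMap D E z ^ ((n + 1) * p) by
          rw [h3, mul_div_mul_left _ _ (pow_ne_zero _ hz0)],
        ← add_div, div_eq_div_iff (mul_ne_zero (pow_ne_zero _ hz0) hu0) (pow_ne_zero _ hz0)]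
      simp only [map_add, map_one, map_mul, map_pow] at h2 ⊢
      linear_combination (-(algebraMap D E (j r) ^ p) * algebraMap D E z ^ ((n + 1) * p)) * h2
    rw [hsplit, add_right_comm, hη₁, ← add_div, ← map_add, add_comm (j r), hd₁, pow_succ, map_mul,
      mul_comm (algebraMap D E z), mul_div_mul_right _ _ hz0]
  -- the tail
  have htail := S.mem_span_of_div (E := E) (n := n) (k := 1) (t := n) (i := n) (by rw [pow_one, hq])
    (by rw [hq, hR]; omega) le_rfl (by rw [hq, hR]; omega) b'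
  have hsplit2 : algebraMap D E (j (r ^ p + π * b')) / algebraMap D E (j π) ^ (n + 1) =
      algebraMap D E (j r ^ p) / algebraMap D E (j π) ^ (n + 1) +
        algebraMap D E (j b') / algebraMap D E (j π) ^ n := by
    rw [map_add, map_pow, map_mul, map_add, add_div, map_mul, pow_succ' (algebraMap D E (j π)),
      mul_div_mul_left _ _ hπ0]
  rcases S.descent (n := n) (k := 1) (t := n) le_rfl (by rw [pow_one, hq]) (by rw [hq, hR]; omega) _ _ htail with
    ⟨η, d, hd⟩ | ⟨η, e, c, hexp, he, hc, hce⟩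
  · refine Or.inr ⟨η₁ + η, z, d₁ + d, S.irreducible, ?_⟩
    rw [hsplit2, asAdd, add_add_add_comm, hlead, hd, ← add_div, div_mul_cancel₀ _ (pow_ne_zero _ hz0),
      map_add]
  · refine Or.inl ⟨η₁ + η, Or.inr ⟨z, e, c + z * (d₁ * z ^ (e - n - 1)), S.irreducible, by omega, ?_,
      fun s hs => hc s (by rw [← hs, map_add, map_mul, S.residue_z, zero_mul, add_zero]), ?_⟩⟩
    · obtain ⟨e', he', -⟩ := hexp.dvd he
      exact ⟨e', he'⟩
    · obtain ⟨f, rfl⟩ : ∃ f, e = n + (f + 1) := ⟨e - n - 1, by omega⟩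
      rw [hsplit2, asAdd, add_add_add_comm, hlead, add_mul, hce, pow_add, ← mul_assoc,
        div_mul_cancel₀ _ (pow_ne_zero _ hz0), show n + (f + 1) - n - 1 = f by omega, map_add, map_mul,
        map_mul, map_pow]
      ring

omit [IsLocalRing B] in
/-- The leading coefficient is not in the perfect core: a degree `p ^ k` step reduces. -/
theorem noncore_case {i : ℕ} (hq : q = p ^ (i + 1)) {n : ℕ} (hn : 0 < n) (hpn : ¬ p ∣ n) (hR : n * q ≤ R)
    (r b' : B) (hr : ∀ s : D, residue D (j r) ≠ residue D s ^ p) :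
    Reduced p D (algebraMap D E (j (r ^ p ^ i + π * b')) / algebraMap D E (j π) ^ n) := by
  obtain ⟨n, rfl⟩ : ∃ n', n = n' + 1 := ⟨n - 1, by omega⟩
  have hz0 := S.z_ne E
  have hne := Expo.ne_mul (p := p) (k := i + 1) hn hpn
  rw [Nat.add_sub_cancel] at hne
  have hπ0 : algebraMap D E (j π) ≠ 0 := by
    obtain ⟨ε', h, -⟩ := S.inv_pow 1
    rw [S.eq, map_mul, map_pow]
    refine mul_ne_zero (pow_ne_zero _ hz0) ?_
    rw [pow_one] at h
    exact left_ne_zero_of_mul_eq_one (by rw [← map_mul, h, map_one])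
  -- the leading term
  obtain ⟨ε', hinv, -⟩ := S.inv_pow (n + 1)
  obtain ⟨η₁, hη₁⟩ := telescope (E := E) S (j r) ((n + 1) * p) i
  set g := R - (n + 1) * q with hg
  have hlead : algebraMap D E (j r ^ p ^ i) / algebraMap D E (j π) ^ (n + 1) + (η₁ ^ p - η₁) =
      algebraMap D E (j r) / algebraMap D E z ^ ((n + 1) * p) +
        algebraMap D E (z ^ g * (j r ^ p ^ i * ε')) := by
    have hsplit : algebraMap D E (j r ^ p ^ i) / algebraMap D E (j π) ^ (n + 1) =
        algebraMap D E (j r ^ p ^ i) / algebraMap D E z ^ ((n + 1) * p * p ^ i) +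
          algebraMap D E (z ^ g * (j r ^ p ^ i * ε')) := by
      have h2 : algebraMap D E ((1 + z ^ R * ε) ^ (n + 1)) * algebraMap D E (1 + z ^ R * ε') = 1 := by
        rw [← map_mul, hinv, map_one]
      have hu0 : algebraMap D E ((1 + z ^ R * ε) ^ (n + 1)) ≠ 0 := left_ne_zero_of_mul_eq_one h2
      rw [← map_pow (algebraMap D E) (j π), S.eq, mul_pow, ← pow_mul, mul_comm q (n + 1),
        show (n + 1) * p * p ^ i = (n + 1) * q by rw [hq, pow_succ]; ring, map_mul,
        map_pow (algebraMap D E) z,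
        div_add' _ _ _ (pow_ne_zero _ hz0),
        div_eq_div_iff (mul_ne_zero (pow_ne_zero _ hz0) hu0) (pow_ne_zero _ hz0)]
      have hRg : R = g + (n + 1) * q := by omega
      simp only [map_add, map_one, map_mul, map_pow] at h2 ⊢
      rw [hRg, pow_add] at h2 ⊢
      linear_combination (-(algebraMap D E (j r) ^ p ^ i) * algebraMap D E z ^ ((n + 1) * q)) * h2
    rw [hsplit, add_right_comm, hη₁]
  -- the tail
  have hnq : n * q + q ≤ R := by rw [← Nat.succ_mul]; exact hR
  have htail := S.mem_span_of_div (E := E) (n := n) (k := i + 1) (t := n) (i := n) hq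
    (by omega) le_rfl (by omega) b'
  have hsplit2 : algebraMap D E (j (r ^ p ^ i + π * b')) / algebraMap D E (j π) ^ (n + 1) =
      algebraMap D E (j r ^ p ^ i) / algebraMap D E (j π) ^ (n + 1) +
        algebraMap D E (j b') / algebraMap D E (j π) ^ n := by
    rw [map_add, map_pow, map_mul, map_add, add_div, map_mul, pow_succ' (algebraMap D E (j π)),
      mul_div_mul_left _ _ hπ0]
  set d₁ := z ^ g * (j r ^ p ^ i * ε')
  have hnp : n < (n + 1) * p := lt_of_lt_of_le (Nat.lt_succ_self n) (Nat.le_mul_of_pos_right _ hp.out.pos)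
  rcases S.descent (n := n) (k := i + 1) (t := n) le_rfl hq (by omega) _ _ htail with
    ⟨η, d, hd⟩ | ⟨η, e, c, hexp, he, hc, hce⟩
  · obtain ⟨f, hf⟩ : ∃ f, (n + 1) * p = n + (f + 1) := ⟨(n + 1) * p - n - 1, by omega⟩
    refine ⟨η₁ + η, Or.inr ⟨z, (n + 1) * p,
      j r + z * (d₁ * z ^ (n + f) + d * z ^ f), S.irreducible, by omega, dvd_mul_left p _,
      fun s hs => hr s (by rw [← hs, map_add, map_mul, S.residue_z, zero_mul, add_zero]), ?_⟩⟩
    rw [hsplit2, asAdd, add_add_add_comm, hlead, hd, hf, add_mul, add_mul,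
      div_mul_cancel₀ _ (pow_ne_zero _ hz0), pow_add (algebraMap D E z), ← mul_assoc (algebraMap D E d / _),
      div_mul_cancel₀ _ (pow_ne_zero _ hz0)]
    simp only [map_add, map_mul, map_pow]
    ring
  · obtain ⟨e', he', -⟩ := hexp.dvd he
    rcases lt_trichotomy e ((n + 1) * p) with hlt | heq | hgt
    · obtain ⟨f, hf⟩ : ∃ f, (n + 1) * p = e + (f + 1) := ⟨(n + 1) * p - e - 1, by omega⟩
      refine ⟨η₁ + η, Or.inr ⟨z, (n + 1) * p,
        j r + z * (d₁ * z ^ (e + f) + c * z ^ f), S.irreducible, by omega, dvd_mul_left p _,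
        fun s hs => hr s (by rw [← hs, map_add, map_mul, S.residue_z, zero_mul, add_zero]), ?_⟩⟩
      rw [hsplit2, asAdd, add_add_add_comm, hlead, hf, add_mul, add_mul,
        div_mul_cancel₀ _ (pow_ne_zero _ hz0), pow_add (algebraMap D E z),
        ← mul_assoc (_ + (η ^ p - η)), hce]
      simp only [map_add, map_mul, map_pow]
      ring
    · exact absurd (heq ▸ hexp) hne
    · obtain ⟨f, hf⟩ : ∃ f, e = (n + 1) * p + (f + 1) := ⟨e - (n + 1) * p - 1, by omega⟩
      refine ⟨η₁ + η, Or.inr ⟨z, e, c + z * (j r * z ^ f + d₁ * z ^ ((n + 1) * p + f)), S.irreducible,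
        by omega, ⟨e', he'⟩,
        fun s hs => hc s (by rw [← hs, map_add, map_mul, S.residue_z, zero_mul, add_zero]), ?_⟩⟩
      rw [hsplit2, asAdd, add_add_add_comm, hlead, add_mul, add_mul, hce, hf, pow_add (algebraMap D E z),
        ← mul_assoc, div_mul_cancel₀ _ (pow_ne_zero _ hz0)]
      simp only [map_add, map_mul, map_pow]
      ring

end Step

end ASWeak24
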