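import Groth.Agent.ASWeak24.Pole
import Groth.Agent.Ram24.EisRam

/-!
# A totally ramified extension reducing an Artin–Schreier element
-/

set_option autoImplicit false
set_option maxHeartbeats 1000000
universe u

open IsLocalRing Polynomial

namespace ASWeak24

/-- In every local extension attached to `K'/K` the element `ξ` is reduced. -/
def GoodExt (p : ℕ) (B K L : Type u) [CommRing B] [IsLocalRing B] [Field K] [Field L] [Algebra K L]
    [Algebra B L] (ξ : L) (K' : Type u) [Field K'] [Algebra K K'] : Prop :=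
  ∀ (N : Type u) [Field N] [Algebra K N] [Algebra L N] [Algebra K' N] [IsScalarTower K L N]
    [IsScalarTower K K' N], Algebra.adjoin L (Set.range (algebraMap K' N)) = ⊤ →
    ∀ W : ValuationSubring N, EtRam.Dominates B ((algebraMap L N).comp (algebraMap B L)) W →
      Reduced p W (algebraMap L N ξ)

/-- Existence of a separable totally ramified extension reducing `ξ`. -/
def HasGood (p : ℕ) (A K B L : Type u) [CommRing A] [IsLocalRing A] [CommRing B] [IsLocalRing B]
    [Field K] [Field L] [Algebra A K] [Algebra K L] [Algebra B L] (ξ : L) : Prop :=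
  ∃ (K' : Type u) (_ : Field K') (_ : Algebra K K'), FiniteDimensional K K' ∧
    Algebra.IsSeparable K K' ∧ EtRam.IsTotallyRamified A ((algebraMap K K').comp (algebraMap A K)) ∧
    GoodExt p B K L ξ K'

variable {p : ℕ} [hp : Fact p.Prime]

section Invariance

variable {D E : Type u} [CommRing D] [IsLocalRing D] [Field E] [Algebra D E] [CharP E p]

theorem Reduced.of_as {x η₀ : E} (h : Reduced p D (x + (η₀ ^ p - η₀))) : Reduced p D x := by
  obtain ⟨η, h⟩ := h
  refine ⟨η₀ + η, h.imp (fun ⟨d, hd⟩ => ⟨d, by rw [asAdd, ← add_assoc, hd]⟩) ?_⟩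
  rintro ⟨ϖ, m, c, h1, h2, h3, h4, h5⟩
  exact ⟨ϖ, m, c, h1, h2, h3, h4, by rw [asAdd, ← add_assoc, h5]⟩

end Invariance

theorem HasGood.of_as {A K B L : Type u} [CommRing A] [IsLocalRing A] [CommRing B] [IsLocalRing B]
    [Field K] [Field L] [Algebra A K] [Algebra K L] [Algebra B L] [CharP L p] {ξ η₀ : L}
    (h : HasGood p A K B L (ξ + (η₀ ^ p - η₀))) : HasGood p A K B L ξ := by
  obtain ⟨K', _, _, h1, h2, h3, h4⟩ := h
  refine ⟨K', inferInstance, inferInstance, h1, h2, h3, ?_⟩
  intro N _ _ _ _ _ _ hgen W hW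
  have : CharP N p := charP_of_injective_algebraMap (algebraMap L N).injective p
  have h := h4 N hgen W hW
  rw [map_add, map_sub, map_pow] at h
  exact h.of_as

omit hp in
/-- Transport along a ring isomorphism onto a valuation subring. -/
theorem reduced_transfer {D E N : Type u} [CommRing D] [IsDomain D] [IsDiscreteValuationRing D]
    [Field E] [Algebra D E] [Field N] (Φ : E →+* N) (ψ : D →+* N)
    (hΦ : ∀ d, Φ (algebraMap D E d) = ψ d) (hψ : Function.Injective ψ)
    (hfrac : ∀ y : N, ∃ a b : D, ψ b ≠ 0 ∧ y * ψ b = ψ a)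
    (W : ValuationSubring N) (hle : ∀ d, ψ d ∈ W)
    (hlt : ∀ d ∈ maximalIdeal D, W.valuation (ψ d) < 1) {x : E} (h : Reduced p D x) :
    Reduced p W (Φ x) := by
  have hbij : Function.Bijective (ψ.codRestrict W hle) := by
    refine ⟨fun a b hab => hψ (congrArg Subtype.val hab :), fun w => ?_⟩
    obtain ⟨d, hd⟩ := (Ram24.mem_iff_mem_range ψ hfrac W hle hlt w).mp w.2
    exact ⟨d, Subtype.ext hd⟩
  let e : D ≃+* W := RingEquiv.ofBijective _ hbij
  have he : ∀ d, algebraMap W N (e d) = Φ (algebraMap D E d) := fun d => (hΦ d).symm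
  obtain ⟨η, h⟩ := h
  refine ⟨Φ η, h.imp (fun ⟨d, hd⟩ => ⟨e d, by rw [he, ← hd, map_add, map_sub, map_pow]⟩) ?_⟩
  rintro ⟨ϖ, m, c, h1, h2, h3, h4, h5⟩
  refine ⟨e ϖ, m, e c, (MulEquiv.irreducible_iff e.toMulEquiv).mpr h1, h2, h3, fun r hr => ?_, ?_⟩
  · obtain ⟨s, rfl⟩ := hbij.2 r
    refine h4 s ?_
    rw [← map_pow, ← sub_eq_zero, ← map_sub, residue_eq_zero_iff] at hr ⊢
    rw [mem_maximalIdeal, mem_nonunits_iff] at hr ⊢
    exact fun hu => hr (by
      have := hu.map e
      rwa [map_sub, map_pow] at this)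
  · rw [he, he, ← h5, map_mul, map_add, map_sub, map_pow, map_pow]

/-- No extension is needed for a reduced element. -/
theorem hasGood_of_reduced (A K B L : Type u) [CommRing A] [IsDomain A] [IsDiscreteValuationRing A]
    [CommRing B] [IsDomain B] [IsDiscreteValuationRing B] [Field K] [Field L] [Algebra A K]
    [IsFractionRing A K] [Algebra K L] [Algebra B L] [IsFractionRing B L] {ξ : L}
    (h : Reduced p B ξ) : HasGood p A K B L ξ := by
  obtain ⟨π, hπ⟩ := IsDiscreteValuationRing.exists_irreducible A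
  have hπm := (IsDiscreteValuationRing.irreducible_iff_uniformizer π).mp hπ
  refine ⟨K, inferInstance, Algebra.id K, Module.Finite.self K, Algebra.isSeparable_self K, ?_, ?_⟩
  · rw [Algebra.algebraMap_self, RingHom.id_comp]
    have hz : (X - C π : A[X]).eval₂ (algebraMap A K) (algebraMap A K π) = 0 := by
      rw [eval₂_sub, eval₂_X, eval₂_C, sub_self]
    refine Ram24.eis_isTotallyRamified (f := X - C π) (monic_X_sub_C π) (by rw [natDegree_X_sub_C]; exact one_pos)
      (fun i hi => ?_) (by rw [coeff_sub, coeff_X_zero, coeff_C_zero, zero_sub, Ideal.span_singleton_neg, hπm])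
      (algebraMap A K) (IsFractionRing.injective A K) _ hz fun y => ?_
    · rw [natDegree_X_sub_C, Nat.lt_one_iff] at hi
      subst hi
      rw [coeff_sub, coeff_X_zero, coeff_C_zero, zero_sub, hπm]
      exact neg_mem (Ideal.mem_span_singleton_self π)
    · obtain ⟨a, b, hb, rfl⟩ := IsFractionRing.div_surjective (A := A) y
      have hb0 : algebraMap A K b ≠ 0 := IsFractionRing.to_map_ne_zero_of_mem_nonZeroDivisors hb
      refine ⟨AdjoinRoot.of _ a, AdjoinRoot.of _ b, ?_, ?_⟩
      · rwa [AdjoinRoot.lift_of]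
      · rw [AdjoinRoot.lift_of, AdjoinRoot.lift_of, div_mul_cancel₀ _ hb0]
  · intro N _ algKN₀ _ algKN hKLN hKKN hgen W hW
    have hsurj : Function.Surjective (algebraMap L N) := by
      intro y
      have hy : y ∈ (⊥ : Subalgebra L N) := by
        have hle : Algebra.adjoin L (Set.range (@algebraMap K N _ _ algKN)) ≤ ⊥ := by
          refine Algebra.adjoin_le ?_
          rintro _ ⟨k, rfl⟩
          refine ⟨algebraMap K L k, ?_⟩
          show algebraMap L N (algebraMap K L k) = _
          rw [← @IsScalarTower.algebraMap_apply K L N _ _ _ _ _ algKN₀ hKLN k]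
          have h' := @IsScalarTower.algebraMap_apply K K N _ _ _ _ algKN algKN₀ hKKN k
          rwa [Algebra.algebraMap_self_apply] at h'
        exact hle (hgen ▸ Algebra.mem_top)
      exact Algebra.mem_bot.mp hy
    refine reduced_transfer (algebraMap L N) ((algebraMap L N).comp (algebraMap B L)) (fun _ => rfl)
      ((algebraMap L N).injective.comp (IsFractionRing.injective B L)) (fun y => ?_) W hW.1 hW.2 h
    obtain ⟨l, rfl⟩ := hsurj y
    obtain ⟨a, b, hb, rfl⟩ := IsFractionRing.div_surjective (A := B) l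
    have hb0 : algebraMap B L b ≠ 0 := IsFractionRing.to_map_ne_zero_of_mem_nonZeroDivisors hb
    exact ⟨a, b, (map_ne_zero_iff _ (algebraMap L N).injective).mpr hb0,
      by rw [RingHom.comp_apply, RingHom.comp_apply, ← map_mul, div_mul_cancel₀ _ hb0]⟩

/-- Composition with one totally ramified step. -/
theorem hasGood_of_step (A A₁ K K₁ B B₁ L L₁ : Type u) [CommRing A] [IsDomain A] [IsDiscreteValuationRing A]
    [CommRing A₁] [IsDomain A₁] [IsDiscreteValuationRing A₁]
    [CommRing B] [IsDomain B] [IsDiscreteValuationRing B]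
    [CommRing B₁] [IsDomain B₁] [IsDiscreteValuationRing B₁]
    [Field K] [Field K₁] [Field L] [Field L₁] [Algebra A K] [IsFractionRing A K] [Algebra B L]
    [IsFractionRing B L] [Algebra A₁ K₁] [IsFractionRing A₁ K₁] [Algebra B₁ L₁] [IsFractionRing B₁ L₁]
    [Algebra A A₁] [Algebra.IsIntegral A A₁] [Algebra B B₁] [Algebra.IsIntegral B B₁]
    [Algebra A B] [Algebra A L] [Algebra K L] [IsScalarTower A K L] [IsScalarTower A B L]
    [Algebra A₁ B₁] [Algebra A₁ L₁] [Algebra K₁ L₁] [IsScalarTower A₁ K₁ L₁] [IsScalarTower A₁ B₁ L₁]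
    [Algebra K K₁] [Algebra A K₁] [IsScalarTower A A₁ K₁] [IsScalarTower A K K₁]
    [Algebra L L₁] [Algebra B L₁] [IsScalarTower B B₁ L₁] [IsScalarTower B L L₁]
    [IsLocalHom (algebraMap A A₁)] [IsLocalHom (algebraMap B B₁)]
    (hA₁ : Function.Injective (algebraMap A A₁)) (hB₁ : Function.Injective (algebraMap B B₁))
    (hres : ∀ d : A₁, ∃ a : A, d - algebraMap A A₁ a ∈ maximalIdeal A₁)
    (hlift : ∀ (N : Type u) [Field N] (β : B →+* N) (κ : A₁ →+* N),
      (∀ a, β (algebraMap A B a) = κ (algebraMap A A₁ a)) →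
      ∃ ψ : B₁ →+* N, (∀ b, ψ (algebraMap B B₁ b) = β b) ∧ ∀ d, ψ (algebraMap A₁ B₁ d) = κ d)
    [FiniteDimensional K K₁] [Algebra.IsSeparable K K₁] {ξ : L}
    (h : HasGood p A₁ K₁ B₁ L₁ (algebraMap L L₁ ξ)) : HasGood p A K B L ξ := by
  obtain ⟨K', _, _, hfin, hsep, ⟨⟨V₁, hV₁⟩, huniq, hsurj⟩, hgood⟩ := h
  let _ : Algebra K K' := ((algebraMap K₁ K').comp (algebraMap K K₁)).toAlgebra
  have : IsScalarTower K K₁ K' := .of_algebraMap_eq fun _ => rfl
  refine ⟨K', inferInstance, inferInstance, Module.Finite.trans K₁ K', Algebra.IsSeparable.trans K K₁ K', ?_, ?_⟩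
  · set g₁ := (algebraMap K₁ K').comp (algebraMap A₁ K₁)
    have hg : ∀ a, ((algebraMap K K').comp (algebraMap A K)) a = g₁ (algebraMap A A₁ a) := fun a => by
      show algebraMap K₁ K' (algebraMap K K₁ (algebraMap A K a)) = algebraMap K₁ K' (algebraMap A₁ K₁ _)
      rw [← IsScalarTower.algebraMap_apply A K K₁, ← IsScalarTower.algebraMap_apply A A₁ K₁]
    obtain ⟨π, hπ⟩ := IsDiscreteValuationRing.exists_irreducible A
    have hdom : ∀ V : ValuationSubring K', EtRam.Dominates A ((algebraMap K K').comp (algebraMap A K)) V →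
        EtRam.Dominates A₁ g₁ V := fun V hV => by
      have hle := Ram24.mem_of_isIntegral g₁ V fun a : A => (hg a) ▸ hV.1 a
      exact ⟨hle, Ram24.valuation_lt_one_of_mem_maximalIdeal g₁ V hle ⟨algebraMap A A₁ π,
        (map_ne_zero_iff _ hA₁).mpr hπ.ne_zero, (hg π) ▸ hV.2 π ((mem_maximalIdeal _).mpr hπ.not_isUnit)⟩⟩
    refine ⟨⟨V₁, fun a => (hg a).symm ▸ hV₁.1 _,
        fun a ha => (hg a).symm ▸ hV₁.2 _ (map_nonunit (algebraMap A A₁) a ha)⟩,
      fun V V' hV hV' => huniq V V' (hdom V hV) (hdom V' hV'), fun V hV y => ?_⟩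
    obtain ⟨d, hd⟩ := hsurj V (hdom V hV) y
    obtain ⟨a, ha⟩ := hres d
    refine ⟨a, Eq.trans ?_ hd⟩
    simp only
    refine (Ideal.Quotient.eq.mpr ((ValuationSubring.valuation_lt_one_iff V _).mpr ?_)).symm
    show V.valuation (g₁ d - ((algebraMap K K').comp (algebraMap A K)) a) < 1
    rw [hg, ← map_sub]
    exact (hdom V hV).2 _ ha
  · intro N _ _ _ _ _ _ hgen W hW
    let β : B →+* N := (algebraMap L N).comp (algebraMap B L)
    let κ : A₁ →+* N := ((algebraMap K' N).comp (algebraMap K₁ K')).comp (algebraMap A₁ K₁)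
    have hcompat : ∀ a, β (algebraMap A B a) = κ (algebraMap A A₁ a) := fun a => by
      show algebraMap L N (algebraMap B L _) = algebraMap K' N (algebraMap K₁ K' (algebraMap A₁ K₁ _))
      rw [← IsScalarTower.algebraMap_apply A B L, ← IsScalarTower.algebraMap_apply A A₁ K₁,
        IsScalarTower.algebraMap_apply A K K₁, IsScalarTower.algebraMap_apply A K L,
        ← IsScalarTower.algebraMap_apply K K₁ K', ← IsScalarTower.algebraMap_apply K L N,
        ← IsScalarTower.algebraMap_apply K K' N]
    obtain ⟨ψ, hψB, hψA⟩ := hlift N β κ hcompat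
    have hβ : Function.Injective β := (algebraMap L N).injective.comp (IsFractionRing.injective B L)
    have hψ : Function.Injective ψ := by
      rw [RingHom.injective_iff_ker_eq_bot]
      refine Ideal.eq_bot_of_comap_eq_bot (R := B) ?_
      rw [RingHom.comap_ker, show ψ.comp (algebraMap B B₁) = β from RingHom.ext hψB,
        (RingHom.injective_iff_ker_eq_bot β).mp hβ]
    let _ : Algebra L₁ N := (IsFractionRing.lift (A := B₁) hψ).toAlgebra
    let _ : Algebra K₁ N := ((algebraMap K' N).comp (algebraMap K₁ K')).toAlgebra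
    have hL₁ : ∀ d, algebraMap L₁ N (algebraMap B₁ L₁ d) = ψ d := IsFractionRing.lift_algebraMap hψ
    have hLN : ∀ l, algebraMap L₁ N (algebraMap L L₁ l) = algebraMap L N l := by
      intro l
      refine congrFun (congrArg DFunLike.coe (IsLocalization.ringHom_ext (nonZeroDivisors B)
        (j := (algebraMap L₁ N).comp (algebraMap L L₁)) (k := algebraMap L N) (RingHom.ext fun b => ?_))) l
      show algebraMap L₁ N (algebraMap L L₁ (algebraMap B L b)) = _
      rw [← IsScalarTower.algebraMap_apply B L L₁, IsScalarTower.algebraMap_apply B B₁ L₁, hL₁, hψB]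
    have : IsScalarTower K₁ L₁ N := by
      refine IsScalarTower.of_algebraMap_eq fun k => ?_
      refine congrFun (congrArg DFunLike.coe (IsLocalization.ringHom_ext (nonZeroDivisors A₁)
        (j := algebraMap K₁ N) (k := (algebraMap L₁ N).comp (algebraMap K₁ L₁)) (RingHom.ext fun d => ?_))) k
      show _ = algebraMap L₁ N (algebraMap K₁ L₁ (algebraMap A₁ K₁ d))
      rw [← IsScalarTower.algebraMap_apply A₁ K₁ L₁, IsScalarTower.algebraMap_apply A₁ B₁ L₁, hL₁, hψA]
      rfl
    have : IsScalarTower K₁ K' N := .of_algebraMap_eq fun _ => rfl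
    have hgen₁ : Algebra.adjoin L₁ (Set.range (algebraMap K' N)) = ⊤ := by
      rw [eq_top_iff]
      rintro y -
      have hy : y ∈ Algebra.adjoin L (Set.range (algebraMap K' N)) := hgen ▸ Algebra.mem_top
      induction hy using Algebra.adjoin_induction with
      | mem z hz => exact Algebra.subset_adjoin hz
      | algebraMap l => rw [← hLN]; exact Subalgebra.algebraMap_mem _ _
      | add a b _ _ ha hb => exact add_mem ha hb
      | mul a b _ _ ha hb => exact mul_mem ha hb
    have hle : ∀ d, ψ d ∈ W := Ram24.mem_of_isIntegral ψ W fun b => (hψB b).symm ▸ hW.1 b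
    obtain ⟨ϖ, hϖ⟩ := IsDiscreteValuationRing.exists_irreducible B
    have hWdom : EtRam.Dominates B₁ ((algebraMap L₁ N).comp (algebraMap B₁ L₁)) W := by
      refine ⟨fun d => (hL₁ d).symm ▸ hle d, fun d hd => ?_⟩
      show W.valuation (algebraMap L₁ N (algebraMap B₁ L₁ d)) < 1
      rw [hL₁]
      exact Ram24.valuation_lt_one_of_mem_maximalIdeal ψ W hle ⟨algebraMap B B₁ ϖ,
        (map_ne_zero_iff _ hB₁).mpr hϖ.ne_zero,
        (hψB ϖ).symm ▸ hW.2 ϖ ((mem_maximalIdeal _).mpr hϖ.not_isUnit)⟩ d hd
    have := hgood N hgen₁ W hWdom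
    rwa [hLN] at this

section Trinomial

/-- The polynomial `X ^ q + c X ^ i - π`. -/
noncomputable def tri' {R : Type u} [CommRing R] (c π : R) (q i : ℕ) : R[X] :=
  X ^ q + C c * X ^ i - C π

variable {R : Type u} [CommRing R] (c π : R) {q i : ℕ}

theorem tri'_map {S : Type u} [CommRing S] (g : R →+* S) : (tri' c π q i).map g = tri' (g c) (g π) q i := by
  simp [tri']

theorem tri'_low_degree (hi : i < q) : (C c * X ^ i - C π : R[X]).degree < (q : WithBot ℕ) :=
  (degree_sub_le _ _).trans_lt (max_lt (lt_of_le_of_lt (degree_C_mul_X_pow_le _ _) (by exact_mod_cast hi))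
    (lt_of_le_of_lt degree_C_le (by exact_mod_cast (by omega : 0 < q))))

theorem tri'_monic (hi : i < q) : (tri' c π q i).Monic := by
  rw [tri', add_sub_assoc]; exact monic_X_pow_add (tri'_low_degree c π hi)

theorem tri'_natDegree [Nontrivial R] (hi : i < q) : (tri' c π q i).natDegree = q := by
  rw [tri', add_sub_assoc]
  refine natDegree_eq_of_degree_eq_some ?_
  rw [degree_add_eq_left_of_degree_lt (by rw [degree_X_pow]; exact tri'_low_degree c π hi), degree_X_pow]

theorem tri'_coeff (hi : i < q) (hi0 : 0 < i) (m : ℕ) :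
    (tri' c π q i).coeff m = if m = q then 1 else if m = i then c else if m = 0 then -π else 0 := by
  simp only [tri', coeff_sub, coeff_add, coeff_X_pow, coeff_C_mul, coeff_C]
  split_ifs <;> first | omega | simp

end Trinomial

/-- One step along the trinomial, followed by the recursion. -/
theorem hasGood_of_trinomial {A K B L : Type u} [CommRing A] [IsDomain A] [IsDiscreteValuationRing A]
    [CommRing B] [IsDomain B] [IsDiscreteValuationRing B] [Field K] [Field L] [Algebra A K]
    [IsFractionRing A K] [Algebra B L] [IsFractionRing B L] [Algebra A B] [Algebra A L] [Algebra K L]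
    [IsScalarTower A K L] [IsScalarTower A B L] [IsLocalHom (algebraMap A B)] [CharP K p]
    (hinj : Function.Injective (algebraMap A B)) (hw : EtRam.IsWeaklyUnramified A B)
    (hk : ∀ x : ResidueField B, (∀ n : ℕ, ∃ y : ResidueField B, y ^ (p ^ n) = x) ↔
      x ∈ Set.range (algebraMap (ResidueField A) (ResidueField B)))
    {π : A} (hπ : maximalIdeal A = Ideal.span {π}) {q i a : ℕ} (hi0 : 0 < i) (hiq : i < q)
    (hsep : (i : K) ≠ 0) (lam : A) (hlam : lam ≠ 0) {n m : ℕ} (b : B)
    (IH : ∀ (A' K' B' L' : Type u) [CommRing A'] [IsDomain A'] [IsDiscreteValuationRing A']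
      [CommRing B'] [IsDomain B'] [IsDiscreteValuationRing B'] [Field K'] [Field L'] [Algebra A' K']
      [IsFractionRing A' K'] [Algebra B' L'] [IsFractionRing B' L'] [Algebra A' B'] [Algebra A' L']
      [Algebra K' L'] [IsScalarTower A' K' L'] [IsScalarTower A' B' L'] [IsLocalHom (algebraMap A' B')]
      [CharP K' p] (_ : Function.Injective (algebraMap A' B')) (_ : EtRam.IsWeaklyUnramified A' B')
      (_ : ∀ x : ResidueField B', (∀ n : ℕ, ∃ y : ResidueField B', y ^ (p ^ n) = x) ↔
        x ∈ Set.range (algebraMap (ResidueField A') (ResidueField B')))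
      (ξ' : L'), PoleLE p B' m ξ' ∨ Reduced p B' ξ' → HasGood p A' K' B' L' ξ')
    (hred : ∀ (D E : Type u) [CommRing D] [IsDomain D] [IsDiscreteValuationRing D] [Field E]
      [Algebra D E] [IsFractionRing D E] [CharP E p] (j : B →+* D) (z ε : D),
      Step j (algebraMap A B π) z q (q * a + i) ε → residue D ε = residue D (j (algebraMap A B lam)) →
      Reduced p D (algebraMap D E (j b) / algebraMap D E (j (algebraMap A B π)) ^ n) ∨
        PoleLE p D m (algebraMap D E (j b) / algebraMap D E (j (algebraMap A B π)) ^ n))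
    {ξ : L} (hξ : ξ = algebraMap B L b / algebraMap B L (algebraMap A B π) ^ n) :
    HasGood p A K B L ξ := by
  classical
  set c : A := lam * π ^ (a + 1)
  set f : A[X] := tri' c π q i with hfdef
  set g : B[X] := f.map (algebraMap A B) with hgdef
  have hf : f.Monic := tri'_monic c π hiq
  have hdeg : f.natDegree = q := tri'_natDegree c π hiq
  have hd : 0 < f.natDegree := by rw [hdeg]; omega
  have hlow : ∀ k < f.natDegree, f.coeff k ∈ maximalIdeal A := by
    intro k hk'
    rw [hdeg] at hk'
    rw [hfdef, tri'_coeff c π hiq hi0, if_neg hk'.ne, hπ]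
    split_ifs
    · exact Ideal.mem_span_singleton.mpr (dvd_mul_of_dvd_right (dvd_pow_self π a.succ_ne_zero) lam)
    · exact neg_mem (Ideal.mem_span_singleton_self π)
    · exact zero_mem _
  have h0 : maximalIdeal A = Ideal.span {f.coeff 0} := by
    rw [hfdef, tri'_coeff c π hiq hi0, if_neg (by omega), if_neg (by omega), if_pos rfl, hπ,
      Ideal.span_singleton_neg]
  have hg : g.Monic := hf.map _
  have hgdeg : g.natDegree = f.natDegree := hf.natDegree_map _
  have hdg : 0 < g.natDegree := by rw [hgdeg]; exact hd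
  have hlowg : ∀ k < g.natDegree, g.coeff k ∈ maximalIdeal B := fun k hk' => by
    rw [coeff_map]; exact map_nonunit (algebraMap A B) _ (hlow k (by rwa [← hgdeg]))
  have h0g : maximalIdeal B = Ideal.span {g.coeff 0} := by
    rw [coeff_map, ← hw, h0, Ideal.map_span, Set.image_singleton]
  obtain ⟨_, _, hmaxA⟩ := Ram24.dvr_of_eisenstein hf hd hlow h0
  obtain ⟨_, _, hmaxB⟩ := Ram24.dvr_of_eisenstein hg hdg hlowg h0g
  set A₁ := AdjoinRoot f
  set B₁ := AdjoinRoot g
  set zA : A₁ := AdjoinRoot.root f
  set zB : B₁ := AdjoinRoot.root g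
  have : Module.Finite A A₁ := hf.finite_adjoinRoot
  have : Module.Finite B B₁ := hg.finite_adjoinRoot
  have : Algebra.IsIntegral A A₁ := Algebra.IsIntegral.of_finite A A₁
  have : Algebra.IsIntegral B B₁ := Algebra.IsIntegral.of_finite B B₁
  have hjA : Function.Injective (algebraMap A A₁) := Ram24.algebraMap_adjoinRoot_injective hf hd
  have hjB : Function.Injective (algebraMap B B₁) := Ram24.algebraMap_adjoinRoot_injective hg hdg
  have : IsLocalHom (algebraMap A A₁) :=
    (RingHom.IsIntegral.isLocalHom (fun x => Algebra.IsIntegral.isIntegral x) hjA)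
  have : IsLocalHom (algebraMap B B₁) :=
    (RingHom.IsIntegral.isLocalHom (fun x => Algebra.IsIntegral.isIntegral x) hjB)
  have hrootg : f.eval₂ ((AdjoinRoot.of g).comp (algebraMap A B)) zB = 0 := by
    rw [← eval₂_map, ← hgdef]; exact AdjoinRoot.eval₂_root g
  let ρ : A₁ →+* B₁ := AdjoinRoot.lift ((AdjoinRoot.of g).comp (algebraMap A B)) zB hrootg
  have hρA : ∀ x, ρ (algebraMap A A₁ x) = algebraMap B B₁ (algebraMap A B x) := fun _ => AdjoinRoot.lift_of hrootg
  have hρz : ρ zA = zB := AdjoinRoot.lift_root hrootg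
  have hρinj : Function.Injective ρ := by
    rw [RingHom.injective_iff_ker_eq_bot]
    refine Ideal.eq_bot_of_comap_eq_bot (R := A) ?_
    rw [RingHom.comap_ker, show ρ.comp (algebraMap A A₁) = (algebraMap B B₁).comp (algebraMap A B) from
      RingHom.ext hρA, RingHom.ker_eq_bot_iff_eq_zero]
    exact fun x hx => hinj (by rw [map_zero]; exact hjB (by rw [map_zero]; exact hx))
  let _ : Algebra A₁ B₁ := ρ.toAlgebra
  let K₁ := FractionRing A₁
  let L₁ := FractionRing B₁
  have hA₁L₁ : Function.Injective (algebraMap A₁ L₁) := by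
    rw [IsScalarTower.algebraMap_eq A₁ B₁ L₁]
    exact (IsFractionRing.injective B₁ L₁).comp hρinj
  let _ : Algebra K₁ L₁ := (IsFractionRing.lift (A := A₁) hA₁L₁).toAlgebra
  have : IsScalarTower A₁ K₁ L₁ := .of_algebraMap_eq fun x => (IsFractionRing.lift_algebraMap hA₁L₁ x).symm
  have hAK₁ : Function.Injective (algebraMap A K₁) := by
    rw [IsScalarTower.algebraMap_eq A A₁ K₁]
    exact (IsFractionRing.injective A₁ K₁).comp hjA
  let _ : Algebra K K₁ := (IsFractionRing.lift (A := A) hAK₁).toAlgebra
  have : IsScalarTower A K K₁ := .of_algebraMap_eq fun x => (IsFractionRing.lift_algebraMap hAK₁ x).symm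
  have hBL₁ : Function.Injective (algebraMap B L₁) := by
    rw [IsScalarTower.algebraMap_eq B B₁ L₁]
    exact (IsFractionRing.injective B₁ L₁).comp hjB
  let _ : Algebra L L₁ := (IsFractionRing.lift (A := B) hBL₁).toAlgebra
  have : IsScalarTower B L L₁ := .of_algebraMap_eq fun x => (IsFractionRing.lift_algebraMap hBL₁ x).symm
  -- the generator of `K₁` over `K`
  set zK : K₁ := algebraMap A₁ K₁ zA
  have hfz : aeval zK (f.map (algebraMap A K)) = 0 := by
    rw [aeval_map_algebraMap, aeval_algebraMap_apply, AdjoinRoot.aeval_eq, AdjoinRoot.mk_self, map_zero]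
  have hadj : IntermediateField.adjoin K ({zK} : Set K₁) = ⊤ := by
    rw [eq_top_iff]
    intro y _
    have hpoly : ∀ d : A₁, algebraMap A₁ K₁ d ∈ IntermediateField.adjoin K ({zK} : Set K₁) := fun d => by
      obtain ⟨r, rfl⟩ := AdjoinRoot.mk_surjective d
      rw [← AdjoinRoot.aeval_eq, ← aeval_algebraMap_apply, ← aeval_map_algebraMap K]
      exact IntermediateField.algebra_adjoin_le_adjoin K _ (aeval_mem_adjoin_singleton K zK)
    obtain ⟨x₁, x₂, -, rfl⟩ := IsFractionRing.div_surjective (A := A₁) y
    exact div_mem (hpoly x₁) (hpoly x₂)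
  have hirrK : Irreducible (f.map (algebraMap A K)) :=
    (hf.irreducible_iff_irreducible_map_fraction_map).mp (Ram24.irreducible_of_eisenstein hf hd hlow h0)
  have hzint : IsIntegral K zK := ⟨_, hf.map _, by rw [← aeval_def]; exact hfz⟩
  have : FiniteDimensional K K₁ := by
    have := IntermediateField.adjoin.finiteDimensional hzint
    rw [hadj] at this
    exact IntermediateField.topEquiv.toLinearEquiv.finiteDimensional
  have hinjK := IsFractionRing.injective A K
  have : Algebra.IsSeparable K K₁ := by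
    have hsepf : (f.map (algebraMap A K)).Separable := by
      rw [separable_iff_derivative_ne_zero hirrK]
      intro h
      have h1 := congrArg (fun r => coeff r (i - 1)) h
      simp only [coeff_derivative, coeff_map, coeff_zero, Nat.sub_add_cancel hi0, hfdef,
        tri'_coeff c π hiq hi0, if_neg hiq.ne, if_true] at h1
      have hπ0 : π ≠ 0 := ((IsDiscreteValuationRing.irreducible_iff_uniformizer _).mpr hπ).ne_zero
      rw [show ((i - 1 : ℕ) : K) + 1 = (i : K) by rw [← Nat.cast_add_one, Nat.sub_add_cancel hi0]] at h1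
      exact mul_ne_zero ((map_ne_zero_iff _ hinjK).mpr (mul_ne_zero hlam (pow_ne_zero _ hπ0))) hsep h1
    have hsz : IsSeparable K zK := hsepf.of_dvd (minpoly.dvd K zK hfz)
    refine ⟨fun y => mem_separableClosure_iff.mp ?_⟩
    have hle : IntermediateField.adjoin K ({zK} : Set K₁) ≤ separableClosure K K₁ :=
      IntermediateField.adjoin_simple_le_iff.mpr (mem_separableClosure_iff.mpr hsz)
    exact hle (hadj ▸ IntermediateField.mem_top)
  have hres : ∀ d : A₁, ∃ x : A, d - algebraMap A A₁ x ∈ maximalIdeal A₁ := fun d => by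
    rw [hmaxA]; exact Ram24.residue_surjective_of_eisenstein hf hd hlow h0 d
  have hresB : ∀ d : B₁, ∃ x : B, d - algebraMap B B₁ x ∈ Ideal.span {zB} :=
    Ram24.residue_surjective_of_eisenstein hg hdg hlowg h0g
  refine hasGood_of_step A A₁ K K₁ B B₁ L L₁ hjA hjB hres ?_ ?_
  · intro N _ β κ hcompat
    refine ⟨AdjoinRoot.lift β (κ zA) ?_, fun x => AdjoinRoot.lift_of _, fun d => ?_⟩
    · rw [hgdef, eval₂_map, show β.comp (algebraMap A B) = κ.comp (algebraMap A A₁) from RingHom.ext hcompat,
        ← hom_eval₂, AdjoinRoot.algebraMap_eq, AdjoinRoot.eval₂_root, map_zero]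
    · induction d using AdjoinRoot.induction_on with
      | ih r =>
        show AdjoinRoot.lift β (κ zA) _ (AdjoinRoot.lift _ zB hrootg (AdjoinRoot.mk f r)) = _
        rw [AdjoinRoot.lift_mk, hom_eval₂, AdjoinRoot.lift_root, ← AdjoinRoot.aeval_eq, aeval_def]
        refine Eq.trans ?_ (hom_eval₂ r _ κ _).symm
        congr 1
        refine RingHom.ext fun x => ?_
        simp only [RingHom.comp_apply, AdjoinRoot.lift_of]
        exact hcompat x
  -- the new uniformizers
  set jB := algebraMap B B₁
  set πB := algebraMap A B π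
  have hzmem : zB ∈ maximalIdeal B₁ := hmaxB ▸ Ideal.mem_span_singleton_self zB
  have hrel : zB ^ q + jB (algebraMap A B c) * zB ^ i - jB πB = 0 := by
    have h : g.eval₂ jB zB = 0 := AdjoinRoot.eval₂_root g
    have h' : g = tri' (algebraMap A B c) πB q i := by rw [hgdef, hfdef, tri'_map]
    have h2 := congrArg (fun P : B[X] => P.eval₂ jB zB) h'
    simp only [h, tri', eval₂_sub, eval₂_add, eval₂_mul, eval₂_C, eval₂_X_pow] at h2
    exact h2.symm
  set lB : B₁ := jB (algebraMap A B lam)
  have hu : IsUnit (1 - lB * jB πB ^ a * zB ^ i) := by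
    by_contra hnu
    exact (maximalIdeal.isMaximal B₁).ne_top ((Ideal.eq_top_iff_one _).mpr (by
      simpa using add_mem ((mem_maximalIdeal _).mpr hnu)
        (Ideal.mul_mem_left (maximalIdeal B₁) (lB * jB πB ^ a) (Ideal.pow_mem_of_mem _ hzmem i hi0))))
  set v : B₁ := ↑hu.unit⁻¹
  have hv : (1 - lB * jB πB ^ a * zB ^ i) * v = 1 := hu.mul_val_inv
  have hπv : jB πB = zB ^ q * v := by
    have hc : jB (algebraMap A B c) = lB * jB πB ^ (a + 1) := by
      simp only [c, lB, πB, map_mul, map_pow]
    rw [hc] at hrel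
    linear_combination (-v) * hrel - jB πB * hv
  have hstep : Step jB πB zB q (q * a + i) (lB * v ^ (a + 1)) := by
    refine ⟨hmaxB, by omega, ?_, hresB, fun x hx => ?_⟩
    · rw [hπv, pow_add, pow_mul]
      have h2 : jB πB ^ a = (zB ^ q) ^ a * v ^ a := by rw [hπv, mul_pow]
      rw [h2] at hv
      linear_combination zB ^ q * hv
    · rw [← hmaxB, mem_maximalIdeal, mem_nonunits_iff] at hx
      have hxm : x ∈ maximalIdeal B := (mem_maximalIdeal x).mpr fun h => hx (h.map _)
      rwa [← hw, hπ, Ideal.map_span, Set.image_singleton, Ideal.mem_span_singleton] at hxm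
  have hεres : residue B₁ (lB * v ^ (a + 1)) = residue B₁ lB := by
    have hv1 : residue B₁ v = 1 := by
      have h := congrArg (residue B₁) hv
      rw [map_mul, map_sub, map_one, map_mul _ _ (zB ^ i), (residue_eq_zero_iff (zB ^ i)).mpr
        (Ideal.pow_mem_of_mem _ hzmem i hi0), mul_zero, sub_zero, one_mul] at h
      exact h
    rw [map_mul, map_pow, hv1, one_pow, mul_one]
  have : CharP L p := charP_of_injective_algebraMap (algebraMap K L).injective p
  have : CharP L₁ p := charP_of_injective_algebraMap (algebraMap L L₁).injective p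
  have : CharP K₁ p := charP_of_injective_algebraMap (algebraMap K K₁).injective p
  have hξ₁ : algebraMap L L₁ ξ = algebraMap B₁ L₁ (jB b) / algebraMap B₁ L₁ (jB πB) ^ n := by
    rw [hξ, map_div₀, map_pow, ← IsScalarTower.algebraMap_apply B L L₁, ← IsScalarTower.algebraMap_apply B L L₁]
    rfl
  have : IsLocalHom (algebraMap A₁ B₁) := by
    refine ⟨fun x hx => ?_⟩
    by_contra hnu
    have hmem : x ∈ maximalIdeal A₁ := hnu
    rw [hmaxA, Ideal.mem_span_singleton] at hmem
    obtain ⟨y, rfl⟩ := hmem
    rw [show algebraMap A₁ B₁ (zA * y) = zB * ρ y from (map_mul ρ _ _).trans (by rw [hρz])] at hx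
    exact (mem_maximalIdeal _).mp hzmem (isUnit_of_mul_isUnit_left hx)
  refine IH A₁ K₁ B₁ L₁ hρinj ?_ ?_ _ (by
    rw [hξ₁]
    exact (hred B₁ L₁ jB zB _ hstep hεres).symm)
  · show (maximalIdeal A₁).map ρ = maximalIdeal B₁
    rw [hmaxA, hmaxB, Ideal.map_span, Set.image_singleton, hρz]
  · -- residue fields do not change
    set φA := algebraMap (ResidueField A) (ResidueField A₁)
    set φB := algebraMap (ResidueField B) (ResidueField B₁)
    have hsA : Function.Surjective φA := fun y => by
      obtain ⟨d, rfl⟩ := residue_surjective (R := A₁) y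
      obtain ⟨x, hx⟩ := hres d
      exact ⟨residue A x, (Ideal.Quotient.eq.mpr hx).symm⟩
    have hsB : Function.Surjective φB := fun y => by
      obtain ⟨d, rfl⟩ := residue_surjective (R := B₁) y
      obtain ⟨x, hx⟩ := hresB d
      exact ⟨residue B x, (Ideal.Quotient.eq.mpr (hmaxB ▸ hx)).symm⟩
    have hcomm : ∀ x, algebraMap (ResidueField A₁) (ResidueField B₁) (φA x) =
        φB (algebraMap (ResidueField A) (ResidueField B) x) := fun x => by
      obtain ⟨x, rfl⟩ := residue_surjective (R := A) x
      exact congrArg (residue B₁) (hρA x)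
    intro y
    obtain ⟨x, rfl⟩ := hsB y
    constructor
    · intro h
      obtain ⟨x', hx'⟩ := (hk x).mp fun N => by
        obtain ⟨w, hw'⟩ := h N
        obtain ⟨w, rfl⟩ := hsB w
        exact ⟨w, φB.injective (by rw [map_pow, hw'])⟩
      exact ⟨φA x', by rw [hcomm, hx']⟩
    · rintro ⟨y', hy'⟩ N
      obtain ⟨x', rfl⟩ := hsA y'
      obtain ⟨w, hw'⟩ := (hk _).mpr ⟨x', rfl⟩ N
      exact ⟨φB w, by rw [← map_pow, hw', ← hcomm, hy']⟩

/-- The main recursion. -/
theorem exists_hasGood : ∀ (n : ℕ) (A K B L : Type u) [CommRing A] [IsDomain A] [IsDiscreteValuationRing A]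
    [CommRing B] [IsDomain B] [IsDiscreteValuationRing B] [Field K] [Field L] [Algebra A K]
    [IsFractionRing A K] [Algebra B L] [IsFractionRing B L] [Algebra A B] [Algebra A L] [Algebra K L]
    [IsScalarTower A K L] [IsScalarTower A B L] [IsLocalHom (algebraMap A B)] [CharP K p]
    (_ : Function.Injective (algebraMap A B)) (_ : EtRam.IsWeaklyUnramified A B)
    (_ : ∀ x : ResidueField B, (∀ n : ℕ, ∃ y : ResidueField B, y ^ (p ^ n) = x) ↔
      x ∈ Set.range (algebraMap (ResidueField A) (ResidueField B)))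
    (ξ : L), PoleLE p B n ξ ∨ Reduced p B ξ → HasGood p A K B L ξ := by
  intro n
  induction n with
  | zero =>
    intro A K B L _ _ _ _ _ _ _ _ _ _ _ _ _ _ _ _ _ _ _ _ _ _ ξ h
    refine hasGood_of_reduced A K B L (h.elim (fun ⟨η, ϖ, d, _, hd⟩ => ⟨η, Or.inl ⟨d, ?_⟩⟩) id)
    rwa [pow_zero, mul_one] at hd
  | succ n ih =>
    intro A K B L _ _ _ _ _ _ _ _ _ _ _ _ _ _ _ _ _ _ _ hinj hw hk ξ h
    rcases h with h | h
    swap
    · exact hasGood_of_reduced A K B L h
    obtain ⟨η₀, ϖ, d, hϖ, hd⟩ := h
    have : CharP L p := charP_of_injective_algebraMap (algebraMap K L).injective p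
    refine HasGood.of_as (η₀ := η₀) ?_
    obtain ⟨π, hπ⟩ := IsDiscreteValuationRing.exists_irreducible A
    have hπm := (IsDiscreteValuationRing.irreducible_iff_uniformizer π).mp hπ
    set πB := algebraMap A B π
    have hπB : maximalIdeal B = Ideal.span {πB} := by
      rw [← hw, hπm, Ideal.map_span, Set.image_singleton]
    have hπBi := (IsDiscreteValuationRing.irreducible_iff_uniformizer πB).mpr hπB
    obtain ⟨v, rfl⟩ := (IsDiscreteValuationRing.associated_of_irreducible B hπBi hϖ)
    set P := algebraMap B L πB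
    have hP : P ≠ 0 := (map_ne_zero_iff _ (IsFractionRing.injective B L)).mpr hπBi.ne_zero
    set x := ξ + (η₀ ^ p - η₀)
    set b : B := d * ↑(v⁻¹ ^ (n + 1))
    have hx : x * P ^ (n + 1) = algebraMap B L b := by
      have hv : algebraMap B L ((v : B) ^ (n + 1)) * algebraMap B L ↑(v⁻¹ ^ (n + 1)) = 1 := by
        rw [← map_mul, ← Units.val_pow_eq_pow_val, ← Units.val_mul, inv_pow, mul_inv_cancel, Units.val_one,
          map_one]
      have hd' : x * P ^ (n + 1) * algebraMap B L ((v : B) ^ (n + 1)) = algebraMap B L d := by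
        rw [← hd, map_mul, mul_pow, map_pow, mul_assoc]
      rw [map_mul, ← hd']
      linear_combination (-(x * P ^ (n + 1))) * hv
    clear_value b x
    clear hd
    have hpm : CharP B p := (RingHom.charP_iff (algebraMap B L) (IsFractionRing.injective B L) p).mpr inferInstance
    have hκ : CharP (ResidueField B) p := (CharP.charP_iff_prime_eq_zero hp.out).mpr (by
      rw [← map_natCast (residue B), CharP.cast_eq_zero, map_zero])
    by_cases hbu : IsUnit b
    swap
    · have hmem : b ∈ maximalIdeal B := hbu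
      rw [hπB, Ideal.mem_span_singleton] at hmem
      obtain ⟨b', rfl⟩ := hmem
      refine ih A K B L hinj hw hk x (Or.inl ⟨0, πB, b', hπBi, ?_⟩)
      rw [zero_pow hp.out.ne_zero, sub_zero, add_zero]
      refine mul_right_cancel₀ hP ?_
      rw [mul_assoc, ← pow_succ, hx, map_mul, mul_comm]
    by_cases hpn : p ∣ n + 1
    · by_cases hpth : ∃ r, residue B b = residue B r ^ p
      · obtain ⟨r, hr⟩ := hpth
        obtain ⟨m, hm⟩ := hpn
        rw [← map_pow, ← sub_eq_zero, ← map_sub, residue_eq_zero_iff, hπB, Ideal.mem_span_singleton] at hr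
        obtain ⟨b', hb'⟩ := hr
        rw [sub_eq_iff_eq_add] at hb'
        have hmn : m ≤ n := by
          have h2 : 2 * m ≤ p * m := Nat.mul_le_mul_right m hp.out.two_le
          omega
        refine HasGood.of_as (η₀ := -(algebraMap B L r / P ^ m)) (ih A K B L hinj hw hk _
          (Or.inl ⟨0, πB, b' + r * πB ^ (n - m), hπBi, ?_⟩))
        rw [zero_pow hp.out.ne_zero, sub_zero, add_zero, asNeg, div_pow, ← pow_mul, mul_comm m p, ← hm,
          eq_div_of_mul_eq (pow_ne_zero _ hP) hx, hb', map_add, map_add, map_mul, map_mul, map_pow, map_pow]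
        obtain ⟨e, he⟩ := Nat.exists_eq_add_of_le hmn
        rw [show n - m = e by omega, he, pow_succ, pow_add]
        field_simp
        ring
      · push Not at hpth
        exact hasGood_of_reduced A K B L ⟨0, Or.inr ⟨πB, n + 1, b, hπBi, Nat.succ_pos _, hpn, hpth,
          by rw [zero_pow hp.out.ne_zero, sub_zero, add_zero, hx]⟩⟩
    have hnK : ((n + 1 : ℕ) : K) ≠ 0 := fun h => hpn ((CharP.cast_eq_zero_iff K p _).mp h)
    have hcpA : CharP A p := (RingHom.charP_iff (algebraMap A K) (IsFractionRing.injective A K) p).mpr inferInstance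
    have hκA : CharP (ResidueField A) p := (CharP.charP_iff_prime_eq_zero hp.out).mpr (by
      rw [← map_natCast (residue A), CharP.cast_eq_zero, map_zero])
    by_cases hcore : ∀ N : ℕ, ∃ y : ResidueField B, y ^ (p ^ N) = residue B b
    · -- the leading coefficient is in the perfect core
      obtain ⟨y, hy⟩ := hcore 1
      rw [pow_one] at hy
      obtain ⟨y', hy'⟩ := (hk y).mp fun N => by
        obtain ⟨w, hw'⟩ := hcore (N + 1)
        exact ⟨w, frobenius_inj (ResidueField B) p (by
          rw [frobenius_def, frobenius_def, ← pow_mul, ← pow_succ, hw', hy])⟩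
      obtain ⟨r, rfl⟩ := residue_surjective (R := A) y'
      have hr : residue B b = residue B (algebraMap A B r) ^ p := by
        rw [show residue B (algebraMap A B r) = y from hy', hy]
      have hru : IsUnit r := by
        by_contra h
        have h0 : residue B (algebraMap A B r) = 0 :=
          (residue_eq_zero_iff _).mpr (map_nonunit (algebraMap A B) r h)
        rw [h0, zero_pow hp.out.ne_zero, residue_eq_zero_iff] at hr
        exact hr hbu
      rw [← map_pow, ← sub_eq_zero, ← map_sub, residue_eq_zero_iff, hπB, Ideal.mem_span_singleton] at hr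
      obtain ⟨b', hb'⟩ := hr
      rw [sub_eq_iff_eq_add, add_comm] at hb'
      have hnA : IsUnit ((n + 1 : ℕ) : A) := by
        rw [← notMem_maximalIdeal, ← residue_eq_zero_iff, map_natCast]
        exact fun h => hpn ((CharP.cast_eq_zero_iff _ p _).mp h)
      have hu := hnA.mul (hru.pow (p - 1))
      set lam : A := ↑hu.unit⁻¹
      have hlam : ((n + 1 : ℕ) : A) * r ^ (p - 1) * lam = 1 := hu.mul_val_inv
      set R₀ := (p - 1) * (n + 1)
      have hR₀ : R₀ % p ≠ 0 := fun h => by
        rcases hp.out.dvd_mul.mp (Nat.dvd_of_mod_eq_zero h) with h | h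
        · have h2 := hp.out.two_le
          have h3 : p ≤ p - 1 := Nat.le_of_dvd (by omega) h
          omega
        · exact hpn h
      have hR₀K : ((R₀ % p : ℕ) : K) ≠ 0 := fun h =>
        hR₀ (Nat.eq_zero_of_dvd_of_lt ((CharP.cast_eq_zero_iff K p _).mp h) (Nat.mod_lt _ hp.out.pos))
      refine hasGood_of_trinomial hinj hw hk hπm (q := p) (a := R₀ / p) (Nat.pos_of_ne_zero hR₀)
        (Nat.mod_lt _ hp.out.pos) hR₀K lam (Units.ne_zero _) (n := n + 1) (m := n) b
        (fun A' K' B' L' => ih A' K' B' L') ?_ (eq_div_of_mul_eq (pow_ne_zero _ hP) hx)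
      intro D E _ _ _ _ _ _ _ j z ε hstep hε
      rw [Nat.div_add_mod] at hstep
      have hres : residue D (j (algebraMap A B r)) ^ p * (-(((n + 1 : ℕ) : ResidueField D) * residue D ε)) +
          residue D (j (algebraMap A B r)) = 0 := by
        have h1 := congrArg (fun x => residue D (j (algebraMap A B x))) hlam
        simp only [map_mul, map_natCast, map_pow, map_one] at h1
        rw [hε, ← mul_pow_sub_one hp.out.ne_zero (residue D (j (algebraMap A B r)))]
        linear_combination (-(residue D (j (algebraMap A B r)))) * h1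
      have := Step.core_case (E := E) hstep rfl (Nat.succ_pos n) hpn rfl (algebraMap A B r) b' hres
      rw [Nat.succ_sub_one] at this
      rw [hb', ← map_pow]
      simpa only [map_pow] using this
    · -- the leading coefficient is not in the perfect core
      push Not at hcore
      have hex : ∃ N, ∀ y : ResidueField B, y ^ (p ^ N) ≠ residue B b := hcore
      classical
      obtain ⟨i, hi⟩ : ∃ i, Nat.find hex = i + 1 := ⟨Nat.find hex - 1, by
        rcases Nat.eq_zero_or_pos (Nat.find hex) with h0 | h0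
        · have := Nat.find_spec hex (residue B b)
          rw [h0, pow_zero, pow_one] at this
          exact absurd rfl this
        · omega⟩
      have hspec := Nat.find_spec hex
      rw [hi] at hspec
      have hmin := Nat.find_min hex (by omega : i < Nat.find hex)
      push Not at hmin
      obtain ⟨y, hy⟩ := hmin
      obtain ⟨r, rfl⟩ := residue_surjective (R := B) y
      have hr := hy
      rw [← map_pow, eq_comm, ← sub_eq_zero, ← map_sub, residue_eq_zero_iff, hπB, Ideal.mem_span_singleton] at hr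
      obtain ⟨b', hb'⟩ := hr
      rw [sub_eq_iff_eq_add, add_comm] at hb'
      have h1K : ((1 : ℕ) : K) ≠ 0 := by rw [Nat.cast_one]; exact one_ne_zero
      refine hasGood_of_trinomial hinj hw hk hπm (q := p ^ (i + 1)) (a := n + 1) Nat.one_pos
        (Nat.one_lt_pow i.succ_ne_zero hp.out.one_lt) h1K 1 one_ne_zero (n := n + 1) (m := n) b
        (fun A' K' B' L' => ih A' K' B' L') ?_ (eq_div_of_mul_eq (pow_ne_zero _ hP) hx)
      intro D E _ _ _ _ _ _ _ j z ε hstep _
      refine Or.inl ?_
      have hnth : ∀ s : D, residue D (j r) ≠ residue D s ^ p := by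
        intro s hs
        obtain ⟨s₀, b₂, hs₀⟩ := hstep.exists_pow_add_mul (p := p) hs
        refine hspec (residue B s₀) ?_
        have hrs : residue B r = residue B s₀ ^ p := by
          rw [hs₀, map_add, map_pow, map_mul, (residue_eq_zero_iff πB).mpr (hπB ▸ Ideal.mem_span_singleton_self πB),
            zero_mul, add_zero]
        rw [pow_succ', pow_mul, ← hrs, hy]
      rw [hb']
      refine Step.noncore_case (E := E) hstep rfl (Nat.succ_pos n) hpn ?_ r b' hnth
      rw [mul_comm]
      exact Nat.le_add_right _ 1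

end ASWeak24
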