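import Groth.Agent.ASWeak24.Tower
import Groth.Agent.Ram24.DegreeP
import Groth.Agent.Ram24.TotRamStructure
import Groth.Agent.Ram24.Incl
import Groth.Agent.S6332

/-!
# Weak solutions for an Artin–Schreier step in characteristic `p`
-/

set_option autoImplicit false
set_option maxHeartbeats 1000000
universe u

open IsLocalRing Polynomial
open scoped IntermediateField

namespace ASWeak24

/-- A degree `p` step above a reduced element is weakly unramified. -/
theorem map_maximalIdeal_eq {p : ℕ} [Fact p.Prime] {N₀ N : Type u} [Field N₀] [Field N] [Algebra N₀ N]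
    [CharP N₀ p] (W₀ : ValuationSubring N₀) (W : ValuationSubring N)
    (hc : ∀ x : N₀, algebraMap N₀ N x ∈ W ↔ x ∈ W₀) [IsDiscreteValuationRing W₀]
    {x : N₀} (hred : Reduced p W₀ x) {z : N} (hz : z ^ p - z = algebraMap N₀ N x)
    (hgen : IntermediateField.adjoin N₀ {z} = ⊤) :
    (maximalIdeal W₀).map (Ram24.inclOf W₀ W hc) = maximalIdeal W := by
  classical
  have hp : p.Prime := Fact.out
  have : CharP N p := charP_of_injective_algebraMap (algebraMap N₀ N).injective p
  obtain ⟨η, hη⟩ := hred
  let z' : N := z + algebraMap N₀ N η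
  have hz' : z' ^ p - z' = algebraMap N₀ N (x + (η ^ p - η)) := by
    simp only [z']
    rw [asAdd, hz, map_add, map_sub, map_pow]
  have hgen' : IntermediateField.adjoin N₀ {z'} = ⊤ := by
    rw [eq_top_iff, ← hgen, IntermediateField.adjoin_simple_le_iff]
    have h2 := sub_mem (IntermediateField.mem_adjoin_simple_self N₀ z')
      ((IntermediateField.adjoin N₀ {z'}).algebraMap_mem η)
    simpa [z'] using h2
  have hAW : EtRam.Dominates W₀ (algebraMap W₀ N) W := by
    refine ⟨fun a => (hc _).mpr a.2, fun a ha => ?_⟩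
    exact (ValuationSubring.valuation_lt_one_iff W (Ram24.inclOf W₀ W hc a)).mp
      (map_nonunit (Ram24.inclOf W₀ W hc) a ha)
  have hincl : RingHom.codRestrict (algebraMap W₀ N) W hAW.1 = Ram24.inclOf W₀ W hc :=
    RingHom.ext fun a => Subtype.ext rfl
  let _ : Algebra W₀ W := (RingHom.codRestrict (algebraMap W₀ N) W hAW.1).toAlgebra
  have : IsLocalHom (algebraMap W₀ W) := by
    show IsLocalHom (RingHom.codRestrict (algebraMap W₀ N) W hAW.1)
    rw [hincl]
    exact Ram24.isLocalHom_inclOf W₀ W hc
  have hcpW : CharP W₀ p :=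
    (RingHom.charP_iff (algebraMap W₀ N₀) (IsFractionRing.injective W₀ N₀) p).mpr inferInstance
  have : CharP (ResidueField W₀) p := (CharP.charP_iff_prime_eq_zero hp).mpr (by
    rw [← map_natCast (residue W₀), CharP.cast_eq_zero, map_zero])
  have hlt : (X : Polynomial W₀).degree < (p : WithBot ℕ) := by
    rw [degree_X]; exact_mod_cast hp.one_lt
  set P : Polynomial W₀ := X ^ p - X with hPdef
  have hP : P.Monic := monic_X_pow_sub hlt
  have hPd : P.natDegree = p := by
    refine natDegree_eq_of_degree_eq_some ?_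
    rw [degree_sub_eq_left_of_degree_lt (by rwa [degree_X_pow]), degree_X_pow]
  have hPr : P.map (residue W₀) = X ^ p - X := by simp [hPdef]
  have hz'' : aeval z' P = algebraMap N₀ N (x + (η ^ p - η)) := by simp [hPdef, hz']
  rw [← hincl]
  rcases hη with ⟨d, hd⟩ | ⟨ϖ, m, c, hϖ, hm, hpm, hnp, hc'⟩
  · exact (Ram24.unramified_of_integral hP hPd hPr hz'' hgen' d hd.symm W hAW).1
  · exact ((Ram24.inert_of_pole hP hPd hPr hϖ hz'' hgen' c hm hpm hnp hc').1.2.2 W hAW).1

theorem exists_weakSolution (p : ℕ) (hp : p.Prime) (A B C K L M : Type u)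
    [CommRing A] [IsDomain A] [IsDiscreteValuationRing A] [CommRing B] [IsDomain B] [IsDiscreteValuationRing B]
    [CommRing C] [IsDomain C] [IsDiscreteValuationRing C]
    [Algebra A B] [Algebra B C] (hAB : Function.Injective (algebraMap A B))
    [IsLocalHom (algebraMap A B)] [IsLocalHom (algebraMap B C)]
    [Field K] [Field L] [Field M] [Algebra A K] [IsFractionRing A K] [Algebra B L] [IsFractionRing B L]
    [Algebra C M] [IsFractionRing C M] [Algebra K L] [Algebra L M] [Algebra K M] [IsScalarTower K L M]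
    [Algebra A L] [IsScalarTower A K L] [IsScalarTower A B L] [Algebra B M] [IsScalarTower B L M] [IsScalarTower B C M]
    (hw : EtRam.IsWeaklyUnramified A B) [CharP K p] [IsGalois L M] (hdeg : Module.finrank L M = p)
    (hk : ∀ x : ResidueField B, (∀ n : ℕ, ∃ y : ResidueField B, y ^ (p ^ n) = x) ↔
      x ∈ Set.range (algebraMap (ResidueField A) (ResidueField B))) :
    ∃ (K₁ : Type u) (_ : Field K₁) (_ : Algebra K K₁), FiniteDimensional K K₁ ∧ Algebra.IsSeparable K K₁ ∧
      EtRam.IsTotallyRamified A ((algebraMap K K₁).comp (algebraMap A K)) ∧ EtRam.IsWeakSolution C K M K₁ := by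
  classical
  have : Fact p.Prime := ⟨hp⟩
  have : CharP L p := charP_of_injective_algebraMap (algebraMap K L).injective p
  have : FiniteDimensional L M := Module.finite_of_finrank_pos (hdeg ▸ hp.pos)
  obtain ⟨zM, ⟨ξ, hξ⟩, hzM⟩ := Groth.Agent.S6332.result (K := L) (L := M) p hdeg
  obtain ⟨ϖ, hϖ⟩ := IsDiscreteValuationRing.exists_irreducible B
  obtain ⟨n, hn⟩ : ∃ n, PoleLE p B n ξ := by
    obtain ⟨a, s, hs, hξ'⟩ := IsFractionRing.div_surjective (A := B) ξ
    obtain ⟨n, v, rfl⟩ := IsDiscreteValuationRing.eq_unit_mul_pow_irreducible (nonZeroDivisors.ne_zero hs) hϖ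
    refine ⟨n, 0, ϖ, a * ↑v⁻¹, hϖ, ?_⟩
    have hv : algebraMap B L (v : B) * algebraMap B L ↑v⁻¹ = 1 := by rw [← map_mul, Units.mul_inv, map_one]
    have hv0 := left_ne_zero_of_mul_eq_one hv
    have hP : algebraMap B L ϖ ≠ 0 := (map_ne_zero_iff _ (IsFractionRing.injective B L)).mpr hϖ.ne_zero
    rw [zero_pow hp.ne_zero, sub_zero, add_zero, ← hξ', map_mul, map_mul, map_pow, div_mul_eq_mul_div,
      div_eq_iff (mul_ne_zero hv0 (pow_ne_zero _ hP))]
    linear_combination (-(algebraMap B L a) * algebraMap B L ϖ ^ n) * hv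
  obtain ⟨K₁, _, _, hfin, hsep, htot, hgood⟩ :=
    exists_hasGood n A K B L hAB hw hk ξ (Or.inl hn)
  refine ⟨K₁, inferInstance, inferInstance, hfin, hsep, htot, ?_⟩
  let _ : Algebra A K₁ := ((algebraMap K K₁).comp (algebraMap A K)).toAlgebra
  have : IsScalarTower A K K₁ := .of_algebraMap_eq fun _ => rfl
  obtain ⟨f, z₁, hf, hd, hlow, h0, hz₁, hgen₁, -⟩ := Ram24.exists_eisenstein A htot
  have hweak : EtRam.IsWeakSolution B K L K₁ :=
    Ram24.eis_isWeakSolution hf hd hlow h0 K B L hw K₁ z₁ hz₁ hgen₁
  intro N _ _ _ _ _ _ hgen W hW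
  let _ : Algebra L N := ((algebraMap M N).comp (algebraMap L M)).toAlgebra
  have : IsScalarTower L M N := .of_algebraMap_eq fun _ => rfl
  have : IsScalarTower K L N := .of_algebraMap_eq fun k => by
    show _ = algebraMap M N (algebraMap L M (algebraMap K L k))
    rw [← IsScalarTower.algebraMap_apply K L M, ← IsScalarTower.algebraMap_apply K M N]
  have : CharP N p := charP_of_injective_algebraMap (algebraMap L N).injective p
  set N₀ : IntermediateField L N := IntermediateField.adjoin L (Set.range (algebraMap K₁ N))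
  have hint : ∀ y : K₁, IsIntegral L (algebraMap K₁ N y) := fun y =>
    ((Algebra.IsIntegral.isIntegral (R := K) y).map (IsScalarTower.toAlgHom K K₁ N)).tower_top
  have hN₀alg : N₀.toSubalgebra = Algebra.adjoin L (Set.range (algebraMap K₁ N)) :=
    IntermediateField.adjoin_toSubalgebra_of_isAlgebraic (by rintro _ ⟨y, rfl⟩; exact (hint y).isAlgebraic)
  have hfinN₀ : FiniteDimensional L N₀ := by
    obtain ⟨s, hs⟩ := hfin.fg_top
    have hsub : N₀ ≤ IntermediateField.adjoin L ↑(s.image (algebraMap K₁ N)) := by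
      rw [IntermediateField.adjoin_le_iff]
      rintro _ ⟨y, rfl⟩
      have hy : y ∈ Submodule.span K (s : Set K₁) := hs ▸ trivial
      induction hy using Submodule.span_induction with
      | mem x hx => exact IntermediateField.subset_adjoin L _ (Finset.mem_coe.mpr (Finset.mem_image_of_mem _ hx))
      | zero => rw [map_zero]; exact zero_mem _
      | add a b _ _ ha hb => rw [map_add]; exact add_mem ha hb
      | smul k a _ ha =>
        rw [Algebra.smul_def, map_mul, ← IsScalarTower.algebraMap_apply K K₁ N,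
          IsScalarTower.algebraMap_apply K L N]
        exact mul_mem (IntermediateField.algebraMap_mem _ _) ha
    have : FiniteDimensional L (IntermediateField.adjoin L (↑(s.image (algebraMap K₁ N)) : Set N)) :=
      IntermediateField.finiteDimensional_adjoin
      (by intro x hx; rw [Finset.coe_image] at hx; obtain ⟨y, -, rfl⟩ := hx; exact hint y)
    exact FiniteDimensional.of_injective (IntermediateField.inclusion hsub).toLinearMap
      (IntermediateField.inclusion hsub).injective
  let f₀ : K₁ →+* N₀ := (algebraMap K₁ N).codRestrict N₀ fun y =>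
    IntermediateField.subset_adjoin L _ ⟨y, rfl⟩
  let _ : Algebra K₁ N₀ := f₀.toAlgebra
  let _ : Algebra K N₀ := ((algebraMap L N₀).comp (algebraMap K L)).toAlgebra
  have : IsScalarTower K L N₀ := .of_algebraMap_eq fun _ => rfl
  have : IsScalarTower K K₁ N₀ := .of_algebraMap_eq fun k => Subtype.ext (by
    show algebraMap L N (algebraMap K L k) = algebraMap K₁ N (algebraMap K K₁ k)
    rw [← IsScalarTower.algebraMap_apply K L N, ← IsScalarTower.algebraMap_apply K K₁ N])
  have hgen₀ : Algebra.adjoin L (Set.range (algebraMap K₁ N₀)) = ⊤ := by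
    rw [eq_top_iff]
    rintro ⟨y, hy⟩ -
    have hy' : y ∈ Algebra.adjoin L (Set.range (algebraMap K₁ N)) := hN₀alg ▸ hy
    have himg : Set.range (algebraMap K₁ N) = N₀.val '' Set.range (algebraMap K₁ N₀) := by
      rw [← Set.range_comp]; rfl
    rw [himg, ← AlgHom.map_adjoin] at hy'
    obtain ⟨y₀, hy₀, h⟩ := hy'
    rwa [show (⟨y, hy⟩ : N₀) = y₀ from Subtype.ext h.symm]
  set W₀ : ValuationSubring N₀ := W.comap (algebraMap N₀ N)
  have hc : ∀ x : N₀, algebraMap N₀ N x ∈ W ↔ x ∈ W₀ := fun _ => Iff.rfl
  have hBN : ∀ b : B, algebraMap L N (algebraMap B L b) = algebraMap M N (algebraMap C M (algebraMap B C b)) :=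
    fun b => by
      show algebraMap M N (algebraMap L M (algebraMap B L b)) = _
      rw [← IsScalarTower.algebraMap_apply B L M, IsScalarTower.algebraMap_apply B C M]
  have hdom₀ : EtRam.Dominates B ((algebraMap L N₀).comp (algebraMap B L)) W₀ := by
    refine ⟨fun b => ?_, fun b hb => ?_⟩
    · show algebraMap L N (algebraMap B L b) ∈ W
      rw [hBN]; exact hW.1 _
    · have hmem : (algebraMap L N₀).comp (algebraMap B L) b ∈ W₀ := by
        show algebraMap L N (algebraMap B L b) ∈ W
        rw [hBN]; exact hW.1 _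
      refine (ValuationSubring.valuation_lt_one_iff W₀ ⟨_, hmem⟩).mp ?_
      rw [mem_maximalIdeal, mem_nonunits_iff]
      intro hu
      have hu' := hu.map (Ram24.inclOf W₀ W hc)
      have h1 : W.valuation (algebraMap L N (algebraMap B L b)) < 1 := by
        rw [hBN]; exact hW.2 _ (map_nonunit (algebraMap B C) b hb)
      exact (mem_maximalIdeal _).mp ((ValuationSubring.valuation_lt_one_iff W
        (Ram24.inclOf W₀ W hc ⟨_, hmem⟩)).mpr h1) hu'
  have : IsDiscreteValuationRing W₀ := Ram24.dvr_of_dominates (B := B) (L := L) W₀ hdom₀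
  have : CharP N₀ p := charP_of_injective_algebraMap (algebraMap L N₀).injective p
  have hred : Reduced p W₀ (algebraMap L N₀ ξ) := hgood N₀ hgen₀ W₀ hdom₀
  have hz : algebraMap M N zM ^ p - algebraMap M N zM = algebraMap N₀ N (algebraMap L N₀ ξ) := by
    rw [← map_pow, ← map_sub, ← hξ, ← IsScalarTower.algebraMap_apply L M N]
    rfl
  have hgenN : IntermediateField.adjoin N₀ {algebraMap M N zM} = ⊤ := by
    rw [eq_top_iff]
    intro y _
    have hy : y ∈ Algebra.adjoin M (Set.range (algebraMap K₁ N)) := hgen ▸ Algebra.mem_top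
    induction hy using Algebra.adjoin_induction with
    | mem x hx =>
      obtain ⟨k, rfl⟩ := hx
      exact IntermediateField.algebraMap_mem _ (f₀ k)
    | algebraMap m =>
      have hm : m ∈ Algebra.adjoin L ({zM} : Set M) := by
        rw [← IntermediateField.adjoin_simple_toSubalgebra_of_isAlgebraic (Algebra.IsAlgebraic.isAlgebraic zM),
          hzM]
        trivial
      induction hm using Algebra.adjoin_induction with
      | mem x hx => rw [Set.mem_singleton_iff.mp hx]; exact IntermediateField.mem_adjoin_simple_self _ _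
      | algebraMap l =>
        rw [← IsScalarTower.algebraMap_apply L M N, IsScalarTower.algebraMap_apply L N₀ N]
        exact IntermediateField.algebraMap_mem _ _
      | add a b _ _ ha hb => rw [map_add]; exact add_mem (ha trivial) (hb trivial)
      | mul a b _ _ ha hb => rw [map_mul]; exact mul_mem (ha trivial) (hb trivial)
    | add a b _ _ ha hb => exact add_mem (ha trivial) (hb trivial)
    | mul a b _ _ ha hb => exact mul_mem (ha trivial) (hb trivial)
  have htop := map_maximalIdeal_eq W₀ W hc hred hz hgenN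
  have h₀ := hweak N₀ hgen₀ W₀ hdom₀
  show (maximalIdeal (W.comap (algebraMap K₁ N))).map (EtRam.inclOfComap W (algebraMap K₁ N)) = maximalIdeal W
  rw [← htop, ← show (maximalIdeal (W₀.comap (algebraMap K₁ N₀))).map
    (EtRam.inclOfComap W₀ (algebraMap K₁ N₀)) = maximalIdeal W₀ from h₀, Ideal.map_map]
  rfl

end ASWeak24
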